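import Cfsg.Agent.Lib.Perm.SuzUnique.Main
import Cfsg.Agent.S0340

/-!
# Simple Zassenhaus groups up to isomorphism
-/

set_option autoImplicit false
set_option linter.unusedSectionVars false
open Cfsg

namespace Cfsg.Lib.SuzUnique

open Cfsg.Lib.Char Cfsg.Lib.Perm.ZasAbelian

universe u v

/-- A finite simple Zassenhaus group is some `PSL(2, F)` or a Suzuki group, up to isomorphism. -/
theorem simple_zassenhaus {G : Type u} {Ω : Type v} [Group G] [Finite G] [MulAction G Ω] [Finite Ω]
    (hZ : Cfsg.IsZassenhausGroup G Ω) [IsSimpleGroup G] :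
    (∃ (F : Type) (_ : Field F) (_ : Fintype F),
      Nonempty (G ≃* Matrix.ProjectiveSpecialLinearGroup (Fin 2) F)) ∨ Cfsg.Lie.IsoSuzuki G := by
  classical
  haveI := Fintype.ofFinite Ω
  obtain ⟨g, -, a, b, hab, -, -⟩ := hZ.2.2.2.1
  have h2 := zas_two_lt_card hZ
  rcases Nat.even_or_odd (Nat.card ↥(MulAction.stabilizer G a ⊓ MulAction.stabilizer G b : Subgroup G))
    with heven | hodd
  · obtain ⟨F, i1, i2, -, h⟩ := Cfsg.Agent.S0344.result hZ hab heven
    exact Or.inl ⟨F, i1, i2, h⟩
  obtain ⟨N, hNn, -, hc, -, hfix⟩ := zas_exists_kernel hZ hab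
  haveI := hNn
  set F := N.map (MulAction.stabilizer G a).subtype with hF
  have hFle : F ≤ MulAction.stabilizer G a := Subgroup.map_subtype_le _
  have hFn : (F.subgroupOf (MulAction.stabilizer G a)).Normal := by
    rw [hF, Subgroup.subgroupOf, Subgroup.comap_map_eq_self_of_injective Subtype.val_injective]
    exact hNn
  have hFfix : ∀ u ∈ F, u ≠ 1 → ∀ c : Ω, u • c = c → c = a := by
    rintro _ ⟨u, hu, rfl⟩ hu1 c hcu
    exact hfix u hu (fun e => hu1 (by rw [e]; rfl)) c hcu
  have hFcard : Nat.card F + 1 = Fintype.card Ω := by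
    have h1 := hc.card_mul
    obtain ⟨hA1, -⟩ := zas_card_group hZ hab
    rw [Nat.card_congr (Subgroup.subgroupOfEquivOfLe (show (MulAction.stabilizer G a ⊓
      MulAction.stabilizer G b : Subgroup G) ≤ MulAction.stabilizer G a from inf_le_left)).toEquiv, hA1] at h1
    have := Nat.eq_of_mul_eq_mul_right Nat.card_pos h1
    rw [hF, Subgroup.card_subtype]
    omega
  have hreg : ∀ y z : Ω, y ≠ a → z ≠ a → ∃! u : F, (u : G) • y = z := by
    intro y z hy hz
    obtain ⟨v, hv, hvz⟩ := kernel_transitive (Ne.symm hy) F hFle hFcard hFfix hz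
    refine ⟨⟨v, hv⟩, hvz, fun w hw => Subtype.ext ?_⟩
    by_contra hne
    exact hy (hFfix (v⁻¹ * (w : G)) (F.mul_mem (F.inv_mem hv) w.2)
      (fun e => hne (inv_mul_eq_one.mp e).symm) y (by rw [mul_smul, hw, ← hvz, inv_smul_smul]))
  rcases Cfsg.Agent.S0885.result hZ hab (Fintype.card Ω - 1) _ (by omega) rfl hodd F hFle hFcard hFfix
    with h | ⟨h, hna, -⟩
  · obtain ⟨hcomm, -⟩ := Cfsg.Agent.S0738.result hZ hab (by omega) F hFle hFn hreg
    rcases Cfsg.Agent.S0731.result hZ a F hFle hFn hcomm hreg with ⟨htr, hsharp⟩ | ⟨K, i1, i2, -, hK⟩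
    · obtain ⟨c, hca, hcb⟩ : ∃ c, c ≠ a ∧ c ≠ b := by
        obtain ⟨u, v, w, huv, huw, hvw⟩ := Fintype.two_lt_card_iff.1 h2
        by_cases hu : u = a ∨ u = b
        · by_cases hv : v = a ∨ v = b
          · refine ⟨w, fun e => ?_, fun e => ?_⟩ <;> rcases hu with hu | hu <;> rcases hv with hv | hv <;>
              first
                | exact huv (hu.trans hv.symm)
                | exact huw (hu.trans e.symm)
                | exact hvw (hv.trans e.symm)
          · exact ⟨v, fun e => hv (Or.inl e), fun e => hv (Or.inr e)⟩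
        · exact ⟨u, fun e => hu (Or.inl e), fun e => hu (Or.inr e)⟩
      have hinj : ∀ d : Ω, d ≠ a → d ≠ b → Function.Injective ![a, b, d] := fun d hda hdb i j h => by
        fin_cases i <;> fin_cases j <;> first | rfl | exact absurd h hab | exact absurd h hab.symm | exact absurd h hda.symm | exact absurd h hdb.symm | exact absurd h hda | exact absurd h hdb
      have hbij : Function.Bijective (fun x : ↥(MulAction.stabilizer G a ⊓ MulAction.stabilizer G b : Subgroup G) =>
          (⟨(x : G) • c, fun e => by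
            rcases Finset.mem_insert.1 e with e | e
            · exact hca (MulAction.injective (x : G) (e.trans x.2.1.symm))
            · exact hcb (MulAction.injective (x : G) ((Finset.mem_singleton.1 e).trans x.2.2.symm))⟩ :
            {d : Ω // d ∉ ({a, b} : Finset Ω)})) := by
        refine ⟨fun x y e => ?_, fun d => ?_⟩
        · by_contra hne
          exact hne (Subtype.ext (inv_mul_eq_one.1 (hZ.2.2.1 ((y : G)⁻¹ * x) a b c hab hcb.symm hca.symm
            (by rw [mul_smul, x.2.1, inv_smul_eq_iff, y.2.1]) (by rw [mul_smul, x.2.2, inv_smul_eq_iff, y.2.2])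
            (by rw [mul_smul, show (x : G) • c = (y : G) • c from congrArg Subtype.val e, inv_smul_smul]))).symm)
        · have hd : d.1 ≠ a ∧ d.1 ≠ b := by simpa using d.2
          obtain ⟨x, hx⟩ := (MulAction.isMultiplyPretransitive_iff.1 htr) (⟨_, hinj c hca hcb⟩ : Fin 3 ↪ Ω)
            ⟨_, hinj d.1 hd.1 hd.2⟩
          exact ⟨⟨x, DFunLike.congr_fun hx 0, DFunLike.congr_fun hx 1⟩, Subtype.ext (DFunLike.congr_fun hx 2)⟩
      have hcardD : Nat.card ↥(MulAction.stabilizer G a ⊓ MulAction.stabilizer G b : Subgroup G) + 2 =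
          Fintype.card Ω := by
        rw [Nat.card_congr (Equiv.ofBijective _ hbij), Nat.card_eq_fintype_card, Fintype.card_subtype_compl,
          Fintype.card_coe, Finset.card_pair hab]
        omega
      exact Or.inl (Cfsg.Agent.S0340.psl_of_sharp_odd hZ.1 (by rw [← hcardD]; exact hodd.add_even even_two) (by omega)
        htr hsharp)
    · exact Or.inl ⟨K, i1, i2, hK⟩
  · obtain ⟨u, v, huv⟩ := hna
    exact Or.inr (isoSuzuki (Cfsg.Lib.ZasSuzuki.setupOfRegular hZ hab F hFle
      (fun h hh w hw => hFn.conj_mem ⟨w, hFle hw⟩ hw ⟨h, hh⟩) hreg h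
      ⟨u, u.2, v, v.2, fun e => huv (Subtype.ext e)⟩))

/-- Three divides the order of `PSL(2, F)`. -/
theorem three_dvd_card_psl (F : Type*) [Field F] [Fintype F] :
    3 ∣ Nat.card (Matrix.ProjectiveSpecialLinearGroup (Fin 2) F) := by
  have h := Cfsg.Lib.Linear.Two.card_PSL_two (F := F)
  have h3 : 3 ∣ Fintype.card F * (Fintype.card F ^ 2 - 1) := by
    rcases Nat.eq_zero_or_pos (Fintype.card F % 3) with h0 | h0
    · exact dvd_mul_of_dvd_left (Nat.dvd_of_mod_eq_zero h0) _
    · refine dvd_mul_of_dvd_right ?_ _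
      have h1 : Fintype.card F ^ 2 % 3 = 1 := by
        have := Nat.mod_lt (Fintype.card F) (show 3 > 0 by norm_num)
        rw [Nat.pow_mod]
        rcases (show Fintype.card F % 3 = 1 ∨ Fintype.card F % 3 = 2 by omega) with e | e <;> rw [e] <;> rfl
      omega
  rw [← h] at h3
  refine (Nat.prime_three.dvd_mul.1 h3).resolve_left fun h' => ?_
  have := Nat.le_of_dvd (by norm_num) (h'.trans (Nat.gcd_dvd_left _ _))
  omega

/-- A simple Zassenhaus group of Suzuki order is a Suzuki group. -/
theorem isoSuzuki_of_isSuzuki {G : Type u} {Ω : Type v} [Group G] [Finite G] [MulAction G Ω] [Finite Ω]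
    (hZ : Cfsg.IsZassenhausGroup G Ω) (h : Cfsg.IsSuzuki G) : Cfsg.Lie.IsoSuzuki G := by
  obtain ⟨hs, m, hm, hcard⟩ := h
  haveI := hs
  refine (simple_zassenhaus hZ).resolve_left ?_
  rintro ⟨F, _, _, ⟨e⟩⟩
  have h3 := three_dvd_card_psl F
  rw [← Nat.card_congr e.toEquiv, hcard] at h3
  have hq : (2 ^ (2 * m + 1)) % 3 = 2 := by
    rw [pow_succ, pow_mul, Nat.mul_mod, Nat.pow_mod]; norm_num
  generalize 2 ^ (2 * m + 1) = q at h3 hq
  rcases Nat.prime_three.dvd_mul.1 h3 with h4 | h4
  · rcases Nat.prime_three.dvd_mul.1 h4 with h5 | h5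
    · have := Nat.prime_three.dvd_of_dvd_pow h5; omega
    · rw [Nat.dvd_iff_mod_eq_zero, Nat.add_mod, Nat.pow_mod, hq] at h5; norm_num at h5
  · omega

end Cfsg.Lib.SuzUnique
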