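import Cfsg.Agent.Lib.Perm.SuzUnique.Normal

/-!
# Two simple Zassenhaus groups of Suzuki type with the same field are isomorphic
-/

set_option autoImplicit false
set_option linter.unusedSectionVars false

namespace Cfsg.Lib.SuzUnique

open Cfsg Cfsg.Lib.ZasSuzuki

universe u v u' v'

variable {G : Type u} {Ω : Type v} [Group G] [Finite G] [MulAction G Ω] [Fintype Ω] [IsSimpleGroup G]
variable {S : ZSetup G Ω} {F : Type} [Field F] [Fintype F]

namespace Coords

variable (Γ : Coords S F)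

/-- The coordinates for the inverse twist. -/
def dual (h2 : CharP F 2) : Coords S F where
  θ := Γ.θ.symm
  odd_θ := by
    have h : orderOf Γ.θ.symm = orderOf Γ.θ := orderOf_inv Γ.θ
    rw [h]; exact Γ.odd_θ
  C a b := Γ.C (Γ.θ.symm a) (b + a * Γ.θ.symm a)
  C_mem _ _ := Γ.C_mem _ _
  C_inj {a b a' b'} h := by
    obtain ⟨h1, h3⟩ := Γ.C_inj h
    obtain rfl := Γ.θ.symm.injective h1
    exact ⟨rfl, add_right_cancel h3⟩
  C_surj g hg := by
    obtain ⟨a, b, h⟩ := Γ.C_surj g hg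
    refine ⟨Γ.θ a, b + Γ.θ a * a, ?_⟩
    rw [RingEquiv.symm_apply_apply, add_assoc, CharTwo.add_self_eq_zero, add_zero, h]
  C_mul a b a' b' := by
    rw [Γ.C_mul, map_add, RingEquiv.apply_symm_apply]
    congr 1
    haveI := h2
    grind
  k := Γ.k.comp (Units.map (Γ.θ.symm : F →* F))
  k_mem _ := Γ.k_mem _
  k_surj d hd := by
    obtain ⟨s, hs⟩ := Γ.k_surj d hd
    refine ⟨Units.map (Γ.θ : F →* F) s, ?_⟩
    rw [MonoidHom.comp_apply]
    refine (congrArg Γ.k (Units.ext ?_)).trans hs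
    show Γ.θ.symm (Γ.θ s) = s
    exact Γ.θ.symm_apply_apply _
  k_C s a b := by
    rw [MonoidHom.comp_apply, Γ.k_C]
    have e : ((Units.map (Γ.θ.symm : F →* F) s : Fˣ) : F) = Γ.θ.symm s := rfl
    rw [e, RingEquiv.apply_symm_apply, map_mul]
    congr 1
    ring

include Γ in
/-- Every group of this kind has coordinates with `θ(θ x) ^ 2 = x` and the relation with `c = 0`. -/
theorem exists_standard (hF : Fintype.card F = S.q) :
    ∃ (Δ : Coords S F) (w : G), (∀ x, Δ.θ (Δ.θ x) ^ 2 = x) ∧ Δ.Normal w 0 1 := by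
  haveI := charP_two hF
  obtain ⟨w, c, e, hN⟩ := Γ.exists_normal hF
  have h8 : 8 ≤ Nat.card F := by
    obtain ⟨n, hn, hn2⟩ := S.exists_q_eq
    obtain ⟨k, hk⟩ := S.odd_exp S.h_eq_sq hn
    rw [Nat.card_eq_fintype_card, hF, hn]
    calc (8 : ℕ) = 2 ^ 3 := by norm_num
      _ ≤ 2 ^ n := Nat.pow_le_pow_right (by norm_num) (by omega)
  obtain rfl : e = 1 := (Γ.rules hF hN).e_eq_one Γ.odd_θ
  obtain ⟨hc, hθ⟩ := (Γ.rules hF hN).constants Γ.odd_θ Γ.theta_ne h8
  rcases hc with rfl | rfl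
  · exact ⟨Γ, w, hθ rfl, hN⟩
  · let Δ := Γ.dual inferInstance
    have hN' : Δ.Normal w 0 1 := by
      obtain ⟨h1, h2, h3, h4, h5⟩ := hN
      refine ⟨h1, h2, h3, h4, ?_⟩
      show w * Γ.C (Γ.θ.symm 0) (1 + 0 * Γ.θ.symm 0) * w =
        Γ.C (Γ.θ.symm 1) (0 + 1 * Γ.θ.symm 1) * w * (Γ.C (Γ.θ.symm 1) (0 + 1 * Γ.θ.symm 1))⁻¹
      simp only [map_zero, map_one, zero_mul, add_zero, one_mul, zero_add]
      exact h5
    exact ⟨Δ, w, ((Δ.rules hF hN').constants Δ.odd_θ Δ.theta_ne h8).2 rfl, hN'⟩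

/-- The points in coordinates. -/
noncomputable def omegaEquiv : Option (F × F) ≃ Ω :=
  Equiv.ofBijective (fun o => o.elim S.a Γ.pt) (by
    refine ⟨?_, fun x => ?_⟩
    · rintro (_ | p) (_ | r) h
      · rfl
      · exact absurd h.symm (Γ.pt_ne r)
      · exact absurd h (Γ.pt_ne p)
      · exact congrArg some (Γ.pt_inj h)
    · by_cases hx : x = S.a
      · exact ⟨none, hx.symm⟩
      · obtain ⟨p, hp⟩ := Γ.pt_surj hx
        exact ⟨some p, hp⟩)

theorem omegaEquiv_none : Γ.omegaEquiv none = S.a := rfl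

theorem omegaEquiv_some (p : F × F) : Γ.omegaEquiv (some p) = Γ.pt p := rfl

/-- The action in coordinates. -/
noncomputable def perm : G →* Equiv.Perm (Option (F × F)) :=
  (Γ.omegaEquiv.symm.permCongrHom.toMonoidHom).comp (MulAction.toPermHom G Ω)

theorem perm_apply (g : G) (o : Option (F × F)) :
    Γ.omegaEquiv (Γ.perm g o) = g • Γ.omegaEquiv o := by
  simp [perm, Equiv.permCongrHom, Equiv.permCongr_apply]

theorem perm_injective : Function.Injective Γ.perm := by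
  intro g g' h
  haveI : FaithfulSMul G Ω := S.hZ.1
  refine FaithfulSMul.eq_of_smul_eq_smul (α := Ω) fun x => ?_
  obtain ⟨o, rfl⟩ := Γ.omegaEquiv.surjective x
  rw [← perm_apply, ← perm_apply, h]

/-- The generators. -/
def gens (w : G) : Set G := (Set.range fun p : F × F => Γ.C p.1 p.2) ∪ Set.range Γ.k ∪ {w}

theorem closure_gens {w : G} (hwa : w • S.a = S.b) : Subgroup.closure (Γ.gens w) = ⊤ := by
  have hC : ∀ p : F × F, Γ.C p.1 p.2 ∈ Subgroup.closure (Γ.gens w) := fun p =>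
    Subgroup.subset_closure (Or.inl (Or.inl ⟨p, rfl⟩))
  have hD : ∀ d ∈ S.D, d ∈ Subgroup.closure (Γ.gens w) := fun d hd => by
    obtain ⟨s, rfl⟩ := Γ.k_surj d hd
    exact Subgroup.subset_closure (Or.inl (Or.inr ⟨s, rfl⟩))
  have hw : w ∈ Subgroup.closure (Γ.gens w) := Subgroup.subset_closure (Or.inr rfl)
  have hA : ∀ g : G, g • S.a = S.a → g ∈ Subgroup.closure (Γ.gens w) := fun g hg => by
    obtain ⟨p, hp⟩ := Γ.pt_surj (x := g • S.b) fun h => S.hab (smul_left_cancel g (h.trans hg.symm)).symm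
    have hd : (Γ.C p.1 p.2)⁻¹ * g ∈ S.D := by
      refine ⟨?_, ?_⟩ <;> show _ • _ = _ <;> rw [mul_smul, inv_smul_eq_iff]
      · rw [hg, C_fix]
      · exact hp.symm
    simpa using mul_mem (hC p) (hD _ hd)
  refine eq_top_iff.2 fun g _ => ?_
  by_cases hg : g • S.a = S.a
  · exact hA g hg
  obtain ⟨p, hp⟩ := Γ.pt_surj hg
  have := hA ((Γ.C p.1 p.2 * w)⁻¹ * g) (by
    rw [mul_smul, inv_smul_eq_iff, mul_smul, hwa]
    exact hp.symm)
  have h2 := mul_mem (mul_mem (hC p) hw) this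
  rwa [mul_inv_cancel_left] at h2

/-- The group as a group of permutations of the coordinates. -/
noncomputable def permEquiv {w : G} (hwa : w • S.a = S.b) :
    G ≃* Subgroup.closure (Γ.perm '' Γ.gens w) :=
  (MonoidHom.ofInjective Γ.perm_injective).trans (MulEquiv.subgroupCongr (by
    rw [MonoidHom.range_eq_map, ← Γ.closure_gens hwa, MonoidHom.map_closure]))

theorem perm_C (p : F × F) (o : Option (F × F)) :
    Γ.perm (Γ.C p.1 p.2) o = o.map (pm Γ.θ p) := by
  refine Γ.omegaEquiv.injective ?_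
  rw [perm_apply]
  cases o with
  | none => exact Γ.C_fix _ _
  | some r => exact Γ.C_smul_pt p r

theorem perm_k (s : Fˣ) (o : Option (F × F)) : Γ.perm (Γ.k s) o = o.map (sc Γ.θ s) := by
  refine Γ.omegaEquiv.injective ?_
  rw [perm_apply]
  cases o with
  | none => exact Γ.k_smul_a s
  | some r => exact Γ.k_smul_pt s r

theorem perm_w {w : G} (hwa : w • S.a = S.b) (hwb : w • S.b = S.a) :
    Γ.perm w none = some 0 ∧ Γ.perm w (some 0) = none ∧
      ∀ p, p ≠ 0 → Γ.perm w (some p) = some (Γ.wfun w p) := by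
  refine ⟨Γ.omegaEquiv.injective ?_, Γ.omegaEquiv.injective ?_,
    fun p hp => Γ.omegaEquiv.injective ?_⟩ <;>
    rw [perm_apply]
  · rw [omegaEquiv_none, omegaEquiv_some, hwa, pt_zero]
  · rw [omegaEquiv_some, omegaEquiv_none, pt_zero, hwb]
  · rw [omegaEquiv_some, omegaEquiv_some, Γ.pt_wfun hwb hp]

end Coords

theorem theta_unique [CharP F 2] {θ φ : F ≃+* F} (hθ : Odd (orderOf θ)) (hφ : Odd (orderOf φ)) {m : ℕ}
    (hF : Fintype.card F = 2 ^ (2 * m + 1)) (h : ∀ x, θ (θ x) ^ 2 = x) (h' : ∀ x, φ (φ x) ^ 2 = x) :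
    θ = φ := by
  have key : ∀ ψ : F ≃+* F, Odd (orderOf ψ) → (∀ x, ψ (ψ x) ^ 2 = x) →
      ∀ x, ψ.symm x = x ^ 2 ^ (m + 1) := by
    intro ψ hψ hx
    obtain ⟨χ, hχ⟩ : ∃ χ, χ = ψ.symm := ⟨_, rfl⟩
    have hsq : ∀ x, χ (χ x) = x ^ 2 := fun x => by
      have h1 := hx (χ (χ x))
      rw [hχ, RingEquiv.apply_symm_apply, RingEquiv.apply_symm_apply] at h1
      rw [hχ]
      exact h1.symm
    have hpow : ∀ (j : ℕ) x, (χ ^ (2 * j)) x = x ^ 2 ^ j := by
      intro j
      induction j with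
      | zero => simp
      | succ j ih =>
        intro x
        rw [show 2 * (j + 1) = 2 * j + 1 + 1 by ring, pow_succ, pow_succ, RingAut.mul_apply,
          RingAut.mul_apply, hsq, ih, ← pow_mul, pow_succ']
    have h1 : χ ^ (2 * (2 * m + 1)) = 1 := RingEquiv.ext fun x => by
      rw [hpow, ← hF, FiniteField.pow_card]; rfl
    have hodd : Odd (orderOf χ) := by
      have h : orderOf ψ.symm = orderOf ψ := orderOf_inv ψ
      rw [hχ, h]; exact hψ
    have h2 : orderOf χ ∣ 2 * m + 1 :=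
      (Nat.Coprime.dvd_mul_left (Nat.coprime_two_right.2 hodd)).1 (orderOf_dvd_of_pow_eq_one h1)
    intro x
    rw [← hχ, ← hpow, show 2 * (m + 1) = 1 + (2 * m + 1) by ring, pow_add,
      orderOf_dvd_iff_pow_eq_one.1 h2, mul_one, pow_one]
  have e : θ.symm = φ.symm := RingEquiv.ext fun x => by rw [key θ hθ h, key φ hφ h']
  simpa using congrArg RingEquiv.symm e

/-- Two groups of this kind over the same field are isomorphic. -/
theorem nonempty_mulEquiv {G' : Type u'} {Ω' : Type v'} [Group G'] [Finite G'] [MulAction G' Ω']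
    [Fintype Ω'] [IsSimpleGroup G'] {S' : ZSetup G' Ω'} (Γ : Coords S F) (Γ' : Coords S' F)
    (hF : Fintype.card F = S.q) (hF' : Fintype.card F = S'.q) : Nonempty (G ≃* G') := by
  haveI := charP_two hF
  obtain ⟨n, hn, -⟩ := S.exists_q_eq
  obtain ⟨m, rfl⟩ := S.odd_exp S.h_eq_sq hn
  obtain ⟨Δ, w, hθ, hN⟩ := Γ.exists_standard hF
  obtain ⟨Δ', w', hθ', hN'⟩ := Γ'.exists_standard hF'
  have e : Δ'.θ = Δ.θ := theta_unique Δ'.odd_θ Δ.odd_θ (hF.trans hn) hθ' hθ
  have H := Δ.rules hF hN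
  have H' := Δ'.rules hF' hN'
  rw [e] at H'
  have hf := H.unique Δ.odd_θ H'
  have hset : Δ.perm '' Δ.gens w = Δ'.perm '' Δ'.gens w' := by
    have hC : ∀ p : F × F, Δ.perm (Δ.C p.1 p.2) = Δ'.perm (Δ'.C p.1 p.2) := fun p =>
      Equiv.ext fun o => by rw [Coords.perm_C, Coords.perm_C, e]
    have hk : ∀ s, Δ.perm (Δ.k s) = Δ'.perm (Δ'.k s) := fun s =>
      Equiv.ext fun o => by rw [Coords.perm_k, Coords.perm_k, e]
    have hw : Δ.perm w = Δ'.perm w' := by
      obtain ⟨a1, a2, a3⟩ := Δ.perm_w hN.2.1 hN.2.2.1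
      obtain ⟨b1, b2, b3⟩ := Δ'.perm_w hN'.2.1 hN'.2.2.1
      refine Equiv.ext fun o => ?_
      rcases o with _ | p
      · rw [a1, b1]
      · by_cases hp : p = 0
        · rw [hp, a2, b2]
        · rw [a3 p hp, b3 p hp, hf p hp]
    simp only [Coords.gens, Set.image_union, Set.image_singleton, ← Set.range_comp, hw,
      Function.comp_def, hC, hk]
  exact ⟨(Δ.permEquiv hN.2.1).trans ((MulEquiv.subgroupCongr (by rw [hset])).trans
    (Δ'.permEquiv hN'.2.1).symm)⟩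

end Cfsg.Lib.SuzUnique
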