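import Cfsg.Agent.Lib.Perm.SuzUnique.Quad
import Cfsg.Agent.Lib.Perm.ZasSuzuki.Main

/-!
# Equivariant coordinates on the kernel of a simple Zassenhaus group of Suzuki type
-/

set_option autoImplicit false
set_option linter.unusedSectionVars false

namespace Cfsg.Lib.SuzUnique

open Cfsg Cfsg.Lib.ZasSuzuki

universe u v

variable {G : Type u} {Ω : Type v} [Group G] [Finite G] [MulAction G Ω] [Fintype Ω]

/-- Coordinates `C a b` on the kernel, for which the two-point stabilizer acts by scalings. -/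
structure Coords (S : ZSetup G Ω) (F : Type) [Field F] where
  θ : F ≃+* F
  odd_θ : Odd (orderOf θ)
  C : F → F → G
  C_mem : ∀ a b, C a b ∈ S.U
  C_inj : ∀ {a b a' b'}, C a b = C a' b' → a = a' ∧ b = b'
  C_surj : ∀ g ∈ S.U, ∃ a b, C a b = g
  C_mul : ∀ a b a' b', C a b * C a' b' = C (a + a') (b + b' + a * θ a')
  k : Fˣ →* G
  k_mem : ∀ s, k s ∈ S.D
  k_surj : ∀ d ∈ S.D, ∃ s, k s = d
  k_C : ∀ (s : Fˣ) a b, k s * C a b * (k s)⁻¹ = C (s * a) (s * θ s * b)

section Split

variable {F : Type*} [Field F] [Finite F] [CharP F 2]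

/-- A symmetric two-cocycle vanishing on the diagonal of an elementary abelian group is a coboundary. -/
theorem exists_split (γ : F → F → F) (hco : ∀ a b c, γ a b + γ (a + b) c = γ b c + γ a (b + c))
    (hsymm : ∀ a b, γ a b = γ b a) (hdiag : ∀ a, γ a a = 0) (h0 : ∀ a, γ 0 a = 0) :
    ∃ g : F → F, ∀ a b, g (a + b) = g a + g b + γ a b := by
  classical
  haveI := Fintype.ofFinite F
  suffices h : ∀ H : AddSubgroup F, ∃ g : F → F, ∀ a ∈ H, ∀ b ∈ H, g (a + b) = g a + g b + γ a b by
    obtain ⟨g, hg⟩ := h ⊤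
    exact ⟨g, fun a b => hg a trivial b trivial⟩
  intro H
  induction h : Nat.card H using Nat.strong_induction_on generalizing H with
  | _ n ih =>
  subst h
  by_cases hb : H = ⊥
  · refine ⟨fun _ => 0, fun a ha b hb' => ?_⟩
    rw [hb, AddSubgroup.mem_bot] at ha
    subst ha
    rw [h0, add_zero, add_zero]
  -- a hyperplane
  haveI : Fact (Nat.Prime 2) := ⟨Nat.prime_two⟩
  obtain ⟨K, x, hxH, hxK, hKH, hdec⟩ : ∃ (K : AddSubgroup F) (x : F), x ∈ H ∧ x ∉ K ∧ K ≤ H ∧
      ∀ a ∈ H, a ∈ K ∨ a + x ∈ K := by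
    obtain ⟨K, hK, hKmax⟩ := Finset.exists_max_image
      (Finset.univ.filter fun K : AddSubgroup F => K < H) (fun K => Nat.card K)
      ⟨⊥, Finset.mem_filter.2 ⟨Finset.mem_univ _, bot_lt_iff_ne_bot.2 hb⟩⟩
    obtain ⟨-, hKlt⟩ := Finset.mem_filter.1 hK
    obtain ⟨x, hxH, hxK⟩ := SetLike.exists_of_lt hKlt
    refine ⟨K, x, hxH, hxK, hKlt.le, fun a ha => ?_⟩
    by_contra hc
    push Not at hc
    obtain ⟨hc1, hc2⟩ := hc
    let K' : AddSubgroup F :=
      { carrier := {y | y ∈ K ∨ y + x ∈ K}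
        zero_mem' := Or.inl K.zero_mem
        add_mem' := by
          rintro y z (hy | hy) (hz | hz)
          · exact Or.inl (K.add_mem hy hz)
          · exact Or.inr (by rw [add_assoc]; exact K.add_mem hy hz)
          · exact Or.inr (by rw [add_right_comm]; exact K.add_mem hy hz)
          · refine Or.inl ?_
            have := K.add_mem hy hz
            rwa [show y + x + (z + x) = y + z + (x + x) by ring, CharTwo.add_self_eq_zero, add_zero]
              at this
        neg_mem' := by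
          intro y hy
          rwa [CharTwo.neg_eq] }
    have hlt : K < K' := SetLike.lt_iff_le_and_exists.2
      ⟨fun y hy => Or.inl hy, x, Or.inr (by rw [CharTwo.add_self_eq_zero]; exact K.zero_mem), hxK⟩
    have hlt' : K' < H := SetLike.lt_iff_le_and_exists.2 ⟨fun y hy => by
      rcases hy with hy | hy
      · exact hKlt.le hy
      · exact add_sub_cancel_right y x ▸ H.sub_mem (hKlt.le hy) hxH,
      a, ha, fun h => h.elim hc1 hc2⟩
    have h1 := hKmax K' (Finset.mem_filter.2 ⟨Finset.mem_univ _, hlt'⟩)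
    have h2 : (K : Set F).ncard < (K' : Set F).ncard :=
      Set.ncard_lt_ncard (by exact_mod_cast hlt) (Set.toFinite _)
    rw [← Nat.card_coe_set_eq, ← Nat.card_coe_set_eq] at h2
    exact absurd h1 (not_le.2 h2)
  have hKlt : Nat.card K < Nat.card H := by
    have h2 : (K : Set F).ncard < (H : Set F).ncard :=
      Set.ncard_lt_ncard ((Set.ssubset_iff_of_subset hKH).2 ⟨x, hxH, hxK⟩) (Set.toFinite _)
    rwa [← Nat.card_coe_set_eq, ← Nat.card_coe_set_eq] at h2
  obtain ⟨g, hg⟩ := ih _ hKlt K rfl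
  refine ⟨fun a => if a ∈ K then g a else g (a + x) + γ (a + x) x, fun a ha b hb => ?_⟩
  have e2 : ∀ y : F, y + x + x = y := fun y => by
    rw [add_assoc, CharTwo.add_self_eq_zero, add_zero]
  have hin : ∀ p ∈ K, ∀ r ∈ K,
      g (p + r) + γ (p + r) x = g p + (g r + γ r x) + γ p (r + x) := fun p hp r hr => by
    rw [hg p hp r hr]
    linear_combination hco p r x
  rcases hdec a ha with hA | hA <;> rcases hdec b hb with hB | hB
  · simp only [if_pos hA, if_pos hB, if_pos (K.add_mem hA hB)]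
    exact hg a hA b hB
  · by_cases hB' : b ∈ K
    · simp only [if_pos hA, if_pos hB', if_pos (K.add_mem hA hB')]
      exact hg a hA b hB'
    have hab : a + b ∉ K := fun h => hB' (by
      have := K.sub_mem h hA
      rwa [add_sub_cancel_left] at this)
    simp only [if_pos hA, if_neg hB', if_neg hab]
    have := hin a hA (b + x) hB
    rwa [e2, ← add_assoc] at this
  · by_cases hA' : a ∈ K
    · simp only [if_pos hA', if_pos hB, if_pos (K.add_mem hA' hB)]
      exact hg a hA' b hB
    have hab : a + b ∉ K := fun h => hA' (by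
      have := K.sub_mem h hB
      rwa [add_sub_cancel_right] at this)
    simp only [if_neg hA', if_pos hB, if_neg hab]
    have := hin b hB (a + x) hA
    rw [e2, ← add_assoc, add_comm b a, hsymm b a] at this
    linear_combination this
  · by_cases hA' : a ∈ K
    · by_cases hB' : b ∈ K
      · simp only [if_pos hA', if_pos hB', if_pos (K.add_mem hA' hB')]
        exact hg a hA' b hB'
      · exact absurd (by simpa using K.sub_mem hA hA') hxK
    by_cases hB' : b ∈ K
    · exact absurd (by simpa using K.sub_mem hB hB') hxK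
    have hab : a + b ∈ K := by
      have := K.add_mem hA hB
      rwa [show a + x + (b + x) = a + b + (x + x) by ring, CharTwo.add_self_eq_zero, add_zero] at this
    simp only [if_neg hA', if_neg hB', if_pos hab]
    obtain ⟨p, rfl⟩ : ∃ p, a = p + x := ⟨a + x, (e2 a).symm⟩
    obtain ⟨r, rfl⟩ : ∃ r, b = r + x := ⟨b + x, (e2 b).symm⟩
    rw [e2] at hA hB
    simp only [e2]
    rw [show p + x + (r + x) = p + r + (x + x) by ring, CharTwo.add_self_eq_zero, add_zero,
      hg p hA r hB]
    have h1 := hco p x (r + x)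
    have h2 := hco x r x
    have h3 := hco r x x
    have h4 := hsymm x r
    have h5 := hdiag x
    rw [show x + (r + x) = r by rw [add_left_comm, CharTwo.add_self_eq_zero, add_zero]] at h1
    rw [add_comm x r] at h2
    rw [CharTwo.add_self_eq_zero] at h3
    have h6 : γ r 0 = 0 := by rw [hsymm]; exact h0 r
    grind

/-- A homogeneous cocycle of degree `1 + θ` with squares `a θ(a)` is the standard one, up to a homogeneous
coboundary. -/
theorem exists_homog (θ : F ≃+* F) (γ : F → F → F)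
    (hco : ∀ a b c, γ a b + γ (a + b) c = γ b c + γ a (b + c))
    (hsymm : ∀ a b, γ a b + γ b a = a * θ b + b * θ a) (hdiag : ∀ a, γ a a = a * θ a)
    (h0 : ∀ a, γ 0 a = 0) (hhom : ∀ l : F, l ≠ 0 → ∀ a b, γ (l * a) (l * b) = l * θ l * γ a b) :
    ∃ e : F, ∀ a b, γ a b = a * θ b + e * ((a + b) * θ (a + b) + a * θ a + b * θ b) := by
  classical
  haveI := Fintype.ofFinite F
  obtain ⟨g, hg⟩ := exists_split (fun a b => γ a b + a * θ b)
    (fun a b c => by simp only [map_add]; linear_combination hco a b c)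
    (fun a b => by
      have h := hsymm a b
      have h2 : (2 : F) = 0 := CharTwo.two_eq_zero
      linear_combination h + (a * θ b - γ b a) * h2)
    (fun a => by show γ a a + a * θ a = 0; rw [hdiag, CharTwo.add_self_eq_zero])
    (fun a => by show γ 0 a + 0 * θ a = 0; rw [h0, zero_mul, add_zero])
  have hg' : ∀ a b, γ a b = a * θ b + g (a + b) + g a + g b := fun a b => by
    have := hg a b
    grind
  let avg : F → F := fun a => ∑ l : Fˣ, ((l : F) * θ (l : F))⁻¹ * g ((l : F) * a)
  have hq : ((Fintype.card Fˣ : ℕ) : F) = 1 := by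
    rw [Fintype.card_units, Nat.cast_sub Fintype.card_pos, Nat.cast_one, FiniteField.cast_card_eq_zero,
      zero_sub, CharTwo.neg_eq]
  have hne : ∀ l : Fˣ, (l : F) * θ (l : F) ≠ 0 := fun l =>
    mul_ne_zero l.ne_zero ((map_ne_zero θ).2 l.ne_zero)
  have havg : ∀ a b, γ a b = a * θ b + avg (a + b) + avg a + avg b := by
    intro a b
    have hterm : ∀ l : Fˣ, γ a b + a * θ b = ((l : F) * θ (l : F))⁻¹ *
        (g ((l : F) * (a + b)) + g ((l : F) * a) + g ((l : F) * b)) := by
      intro l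
      rw [eq_inv_mul_iff_mul_eq₀ (hne l)]
      have h1 := hg' ((l : F) * a) ((l : F) * b)
      rw [hhom _ l.ne_zero, map_mul, ← mul_add] at h1
      linear_combination h1 + ((l : F) * θ (l : F) * a * θ b) * (CharTwo.two_eq_zero : (2 : F) = 0)
    have hs : γ a b + a * θ b = avg (a + b) + avg a + avg b := by
      have h1 : (∑ _l : Fˣ, (γ a b + a * θ b)) = γ a b + a * θ b := by
        rw [Finset.sum_const, Finset.card_univ, nsmul_eq_mul, hq, one_mul]
      rw [← h1, Finset.sum_congr rfl fun l _ => hterm l]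
      simp only [mul_add, Finset.sum_add_distrib, avg]
    grind
  have hscale : ∀ l : Fˣ, avg (l : F) = (l : F) * θ (l : F) * avg 1 := by
    intro l
    simp only [avg, Finset.mul_sum]
    refine Fintype.sum_equiv (Equiv.mulRight l) _ _ fun m => ?_
    simp only [Equiv.coe_mulRight, Units.val_mul, map_mul, mul_one]
    have := m.ne_zero
    have := l.ne_zero
    have := (map_ne_zero θ).2 m.ne_zero
    have := (map_ne_zero θ).2 l.ne_zero
    field_simp
  have hall : ∀ a, avg a = avg 1 * (a * θ a) := by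
    intro a
    by_cases ha : a = 0
    · subst ha
      have h1 := havg 0 0
      rw [h0, zero_mul, add_zero, zero_add, CharTwo.add_self_eq_zero, zero_add] at h1
      rw [← h1, zero_mul, mul_zero]
    · rw [show avg a = avg ((Units.mk0 a ha : Fˣ) : F) from rfl, hscale, Units.val_mk0, mul_comm]
  refine ⟨avg 1, fun a b => ?_⟩
  rw [havg a b, hall (a + b), hall a, hall b]
  ring

end Split

variable [IsSimpleGroup G]

theorem isTransOn_range (S : ZSetup G Ω) : Cfsg.Agent.S1137.IsTransOn S.conjU.range := by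
  classical
  haveI := Fintype.ofFinite G
  refine ⟨?_, fun x y hx hx2 hy hy2 => ?_⟩
  · rintro _ ⟨d, rfl⟩ _ ⟨e, rfl⟩
    rw [← map_mul, ← map_mul]
    exact congrArg S.conjU (Subtype.ext (Cfsg.Lib.Char.zas_D_comm S.hZ S.hab S.odd_D d.2 e.2))
  let f : S.D → {t : G // orderOf t = 2 ∧ t ∈ S.U} := fun d =>
    ⟨(S.conjU d x : S.U), orderOf_eq_prime (by
      rw [pow_two, ← Subgroup.coe_mul, ← map_mul, hx2, map_one, Subgroup.coe_one])
      (fun e => hx ((S.conjU d).injective (by rw [map_one]; exact Subtype.ext e))), (S.conjU d x).2⟩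
  have hinj : Function.Injective f := fun d e h => by
    have h1 : S.conjU d x = S.conjU e x := Subtype.ext (congrArg (fun t : {t : G // orderOf t = 2 ∧ t ∈ S.U} => (t : G)) h)
    refine (inv_mul_eq_one.1 (S.free (d := e⁻¹ * d) hx ?_)).symm
    rw [map_mul, MulAut.mul_apply, h1, map_inv, MulAut.inv_apply_self]
  have hb : Function.Bijective f := (Fintype.bijective_iff_injective_and_card f).2 ⟨hinj, by
    rw [← Nat.card_eq_fintype_card, ← S.invol_card.2, Fintype.card_subtype]⟩
  obtain ⟨d, hd⟩ := hb.2 ⟨y, orderOf_eq_prime (by rw [pow_two]; exact congrArg Subtype.val hy2)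
    (fun e => hy (Subtype.ext e)), y.2⟩
  exact ⟨_, ⟨d, rfl⟩, Subtype.ext (congrArg (fun t : {t : G // orderOf t = 2 ∧ t ∈ S.U} => (t : G)) hd)⟩

/-- Equivariant coordinates exist. -/
theorem exists_coords (S : ZSetup G Ω) :
    ∃ (F : Type) (_ : Field F) (_ : Fintype F), Fintype.card F = S.q ∧ Nonempty (Coords S F) := by
  classical
  have hsq : Nat.card S.U = Nat.card (Subgroup.center S.U) ^ 2 := by
    rw [S.card_center]; exact S.h_eq_sq
  obtain ⟨F, iF, iFF, θ, hθ, hF, T, ι, hT, hTsur, hι, hιinj, hιsur, hTι, hsqr, hscal⟩ :=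
    Cfsg.Lib.Suzuki2.exists_quad S.isSuzukiTwoGroup hsq (isTransOn_range S)
  rw [S.card_center] at hF
  refine ⟨F, iF, iFF, hF, ?_⟩
  haveI : Fintype S.D := Fintype.ofFinite _
  obtain ⟨n, hn, -⟩ := S.exists_q_eq
  haveI : CharP F 2 := by
    haveI : Fact (Nat.Prime 2) := ⟨Nat.prime_two⟩
    exact charP_of_card_eq_prime_pow (f := n) (by rw [hF, hn])
  have hT1 : T 1 = 0 := by
    have := hT 1 1
    rw [one_mul, CharTwo.add_self_eq_zero] at this
    exact this
  have hι0 : ι 0 = 1 := by
    have := hι 0 0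
    rwa [add_zero, left_eq_mul] at this
  have hιsq : ∀ y, ι y * ι y = 1 := fun y => by rw [← hι, CharTwo.add_self_eq_zero, hι0]
  have hιc : ∀ y p, p * ι y = ι y * p := fun y p =>
    Subgroup.mem_center_iff.1 ((S.center_iff _).2 (hιsq y)) p
  -- the scalings
  have hfree : ∀ d : S.D, (∀ p, T (S.conjU d p) = T p) → d = 1 := by
    intro d hd
    obtain ⟨p, hp⟩ := hTsur 1
    refine S.free (u := p * p) (fun h => ?_) (by rw [map_mul, hsqr, hd, ← hsqr])
    rw [hsqr, ← hι0] at h
    have := hιinj h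
    rw [hp, map_one, one_mul] at this
    exact one_ne_zero this
  have hex : ∀ s : Fˣ, ∃ d : S.D, ∀ p, T (S.conjU d p) = s * T p := fun s => by
    obtain ⟨_, ⟨d, rfl⟩, h⟩ := hscal s s.ne_zero
    exact ⟨d, h⟩
  choose kk hkk using hex
  have huniq : ∀ (d : S.D) (s : Fˣ), (∀ p, T (S.conjU d p) = s * T p) → d = kk s := fun d s hd => by
    refine (inv_mul_eq_one.1 (hfree ((kk s)⁻¹ * d) fun p => ?_)).symm
    refine mul_left_cancel₀ s.ne_zero ?_
    rw [← hkk, ← MulAut.mul_apply, ← map_mul, mul_inv_cancel_left, hd]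
  have hmul : ∀ s t : Fˣ, kk (s * t) = kk s * kk t := fun s t =>
    (huniq _ _ fun p => by rw [map_mul, MulAut.mul_apply, hkk, hkk, Units.val_mul, mul_assoc]).symm
  let kh : Fˣ →* S.D := MonoidHom.mk' kk hmul
  have hkinj : Function.Injective kk := fun s t h => by
    obtain ⟨p, hp⟩ := hTsur 1
    have h1 := hkk s p
    rw [h, hkk, hp, mul_one, mul_one] at h1
    exact Units.ext h1.symm
  have hksur : Function.Surjective kk :=
    ((Fintype.bijective_iff_injective_and_card kk).2 ⟨hkinj, by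
      rw [Fintype.card_units, hF, ← Nat.card_eq_fintype_card]; exact Nat.add_sub_cancel _ _⟩).2
  have hκ : ∀ (s : Fˣ) y, S.conjU (kk s) (ι y) = ι ((s : F) * θ (s : F) * y) := by
    intro s y
    by_cases hy : y = 0
    · rw [hy, mul_zero, hι0, map_one]
    obtain ⟨p, hp⟩ := hTsur 1
    have hpp : p * p ≠ 1 := fun h => by
      rw [hsqr, ← hι0] at h
      have := hιinj h
      rw [hp, map_one, one_mul] at this
      exact one_ne_zero this
    have hz : (p * p) * (p * p) = 1 := by rw [hsqr p]; exact hιsq _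
    obtain ⟨_, ⟨d, rfl⟩, hd⟩ := (isTransOn_range S).2 (p * p) (ι y) hpp hz
      (fun h => hy (hιinj (h.trans hι0.symm))) (hιsq y)
    rw [map_mul, hsqr] at hd
    rw [← hd, ← hsqr, map_mul, hsqr, hkk, hιinj hd.symm, map_mul]
    congr 1
    ring
  -- the section
  obtain ⟨p₁, hp₁⟩ := hTsur 1
  let σ : F → S.U := fun a => if h : a = 0 then 1 else S.conjU (kk (Units.mk0 a h)) p₁
  have hσ0 : σ 0 = 1 := dif_pos rfl
  have hTσ : ∀ a, T (σ a) = a := fun a => by
    by_cases h : a = 0
    · rw [h, hσ0, hT1]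
    · simp only [σ, dif_neg h, hkk, hp₁, mul_one, Units.val_mk0]
  have hκσ : ∀ (s : Fˣ) a, S.conjU (kk s) (σ a) = σ ((s : F) * a) := fun s a => by
    by_cases h : a = 0
    · rw [h, mul_zero, hσ0, map_one]
    · simp only [σ, dif_neg h, dif_neg (mul_ne_zero s.ne_zero h)]
      rw [← MulAut.mul_apply, ← map_mul, ← hmul]
      congr 3
      exact Units.ext rfl
  have hker : ∀ a (p : S.U), T p = a → ∃ x, ι x * σ a = p := fun a p hp => by
    obtain ⟨x, hx⟩ := hιsur (p * (σ a)⁻¹) (by
      have h := hT (p * (σ a)⁻¹) (σ a)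
      rw [inv_mul_cancel_right, hp, hTσ] at h
      exact right_eq_add.1 h)
    exact ⟨x, by rw [hx, inv_mul_cancel_right]⟩
  choose γ hγ using fun a b => hker (a + b) (σ a * σ b) (by rw [hT, hTσ, hTσ])
  have hcancel : ∀ {x y : F} {g : S.U}, ι x * g = ι y * g → x = y := fun h => hιinj (mul_right_cancel h)
  have hcl : ∀ (g : S.U) x, g * ι x = ι x * g := fun g x => hιc x g
  have hco : ∀ a b c, γ a b + γ (a + b) c = γ b c + γ a (b + c) := fun a b c => hcancel (g := σ (a + b + c))
    (by
      rw [hι, mul_assoc, hγ, ← mul_assoc, hγ, mul_assoc (σ a), ← hγ b c, ← mul_assoc (σ a), hcl,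
        mul_assoc (ι _) (σ a), ← hγ a (b + c), hι, mul_assoc, add_assoc a b c])
  have hdiag : ∀ a, γ a a = a * θ a := fun a => hcancel (g := σ (a + a)) (by
    rw [hγ, hsqr, hTσ, CharTwo.add_self_eq_zero, hσ0, mul_one])
  have h0 : ∀ a, γ 0 a = 0 := fun a => hcancel (g := σ (0 + a)) (by
    rw [hγ, hσ0, hι0, zero_add])
  have hsymm : ∀ a b, γ a b + γ b a = a * θ b + b * θ a := fun a b => by
    have hyx : σ b * σ a = ι (γ b a + γ a b) * (σ a * σ b) := by
      rw [← hγ a b, ← hγ b a, ← mul_assoc, ← hι, add_assoc, CharTwo.add_self_eq_zero, add_zero,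
        add_comm b a]
    have h1 : (σ a * σ b) * (σ a * σ b) = ι (γ b a + γ a b + a * θ a + b * θ b) := by
      rw [hι, hι]
      calc (σ a * σ b) * (σ a * σ b) = σ a * (σ b * σ a) * σ b := by group
        _ = ι (γ b a + γ a b) * ((σ a * σ a) * (σ b * σ b)) := by
          rw [hyx, ← mul_assoc (σ a), hcl]; group
        _ = _ := by rw [hsqr, hsqr, hTσ, hTσ, mul_assoc]
    rw [hsqr, hT, hTσ, hTσ] at h1
    have h2 := hιinj h1
    rw [map_add] at h2
    linear_combination -h2
  have hhom : ∀ l : F, l ≠ 0 → ∀ a b, γ (l * a) (l * b) = l * θ l * γ a b := fun l hl a b => by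
    refine hcancel (g := σ (l * a + l * b)) ?_
    rw [hγ]
    have h := congrArg (S.conjU (kk (Units.mk0 l hl))) (hγ a b)
    rw [map_mul, map_mul, hκ, hκσ, hκσ, hκσ, Units.val_mk0, mul_add] at h
    exact h.symm
  obtain ⟨e, he⟩ := exists_homog θ γ hco hsymm hdiag h0 hhom
  refine ⟨⟨θ, hθ, fun a b => ((ι (b + e * (a * θ a)) * σ a : S.U) : G), fun a b => SetLike.coe_mem _,
    ?_, ?_, ?_, S.D.subtype.comp kh, fun s => (kk s).2, ?_, ?_⟩⟩
  · intro a b a' b' h
    have h' := Subtype.ext h
    have ha := congrArg T h'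
    rw [hT, hT, hTι, hTι, hTσ, hTσ, zero_add, zero_add] at ha
    subst ha
    exact ⟨rfl, add_right_cancel (hcancel h')⟩
  · intro g hg
    obtain ⟨x, hx⟩ := hker _ ⟨g, hg⟩ rfl
    refine ⟨T ⟨g, hg⟩, x + e * (T ⟨g, hg⟩ * θ (T ⟨g, hg⟩)), ?_⟩
    rw [add_assoc, CharTwo.add_self_eq_zero, add_zero, hx]
  · intro a b a' b'
    rw [← Subgroup.coe_mul]
    refine congrArg Subtype.val ?_
    rw [mul_assoc, ← mul_assoc (σ a), hcl, mul_assoc (ι _) (σ a), ← hγ, ← mul_assoc, ← mul_assoc,
      ← hι, ← hι, he, map_add]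
    congr 2
    have h2 : (2 : F) = 0 := CharTwo.two_eq_zero
    linear_combination (e * (a * θ a) + e * (a' * θ a')) * h2
  · intro d hd
    obtain ⟨s, hs⟩ := hksur ⟨d, hd⟩
    exact ⟨s, congrArg Subtype.val hs⟩
  · intro s a b
    show ((S.conjU (kk s) (ι (b + e * (a * θ a)) * σ a) : S.U) : G) = _
    rw [map_mul, hκ, hκσ, map_mul]
    congr 4
    ring

end Cfsg.Lib.SuzUnique
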