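import Cfsg.Agent.Lib.Perm.SuzUnique.Field

/-!
# Consequences of the relation `w z w = u w u⁻¹` for the action on the affine points
-/

set_option autoImplicit false
set_option linter.unusedSectionVars false

namespace Cfsg.Lib.SuzUnique

variable {F : Type*} [Field F] [Finite F] [CharP F 2] (θ : F ≃+* F)

/-- The product of the kernel. -/
def pm (p r : F × F) : F × F := (p.1 + r.1, p.2 + r.2 + p.1 * θ r.1)

/-- The inverse in the kernel. -/
def pinv (p : F × F) : F × F := (p.1, p.2 + p.1 * θ p.1)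

/-- The scalings of the kernel. -/
def sc (s : F) (p : F × F) : F × F := (s * p.1, s * θ s * p.2)

theorem pm_assoc (p r t : F × F) : pm θ (pm θ p r) t = pm θ p (pm θ r t) := by
  refine Prod.ext ?_ ?_ <;> simp only [pm, map_add] <;> ring

theorem pm_pinv_cancel (p r : F × F) : pm θ (pinv θ p) (pm θ p r) = r := by
  refine Prod.ext ?_ ?_ <;> simp only [pm, pinv, map_add] <;> grind

theorem pm_pinv_cancel' (p r : F × F) : pm θ p (pm θ (pinv θ p) r) = r := by
  refine Prod.ext ?_ ?_ <;> simp only [pm, pinv, map_add] <;> grind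

theorem pm_eq_zero {p r : F × F} : pm θ p r = 0 ↔ r = pinv θ p := by
  constructor
  · intro h
    have := congrArg (pm θ (pinv θ p)) h
    rw [pm_pinv_cancel] at this
    rw [this]
    refine Prod.ext ?_ ?_ <;> simp [pm, pinv]
  · rintro rfl
    refine Prod.ext ?_ ?_ <;> simp only [pm, pinv, Prod.fst_zero, Prod.snd_zero] <;> grind

theorem pinv_pinv (p : F × F) : pinv θ (pinv θ p) = p := by
  refine Prod.ext rfl ?_
  simp only [pinv]
  grind

theorem sc_one (p : F × F) : sc θ 1 p = p := by simp [sc]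

theorem sc_sc (s t : F) (p : F × F) : sc θ s (sc θ t p) = sc θ (s * t) p := by
  refine Prod.ext ?_ ?_ <;> simp only [sc, map_mul] <;> ring

theorem sc_ne_zero {s : F} {p : F × F} (hs : s ≠ 0) (hp : p ≠ 0) : sc θ s p ≠ 0 := fun h => hp (by
  have := congrArg (sc θ s⁻¹) h
  rw [sc_sc, inv_mul_cancel₀ hs, sc_one] at this
  rw [this]
  simp [sc])

/-- What the relation `w z w = u w u⁻¹` says about the action on the affine points. -/
structure Rules (c e : F) (f : F × F → F × F) : Prop where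
  e_ne : e ≠ 0
  ne_zero : ∀ p, p ≠ 0 → f p ≠ 0
  invol : ∀ p, p ≠ 0 → f (f p) = p
  scale : ∀ s p, s ≠ 0 → p ≠ 0 → f (sc θ s p) = sc θ s⁻¹ (f p)
  f_z : f (0, e) = (1, c)
  f_uinv : f (1, c + 1) = (1, c + 1)
  rz : ∀ p, p ≠ 0 → p ≠ (1, c) → f (pm θ (0, e) (f p)) = pm θ (1, c) (f (pm θ (1, c + 1) p))
  ru : ∀ p, p ≠ 0 → p ≠ (1, c + 1) → f (pm θ (1, c) (f p)) = pm θ (0, e) (f (pm θ (1, c) p))

theorem pair_ne {a b : F} (h : a ≠ 0 ∨ b ≠ 0) : ((a, b) : F × F) ≠ 0 := fun e => by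
  simp only [Prod.mk_eq_zero] at e
  tauto

variable {θ} {c e : F} {f : F × F → F × F} (hθ : Odd (orderOf θ))

theorem Rules.fst_ne {a b : F} (h : a ≠ 0) : ((a, b) : F × F) ≠ 0 := pair_ne (Or.inl h)

include hθ in
/-- The involution of the relation is the square of `u`. -/
theorem Rules.e_eq_one (H : Rules θ c e f) : e = 1 := by
  have hz : ((0, e) : F × F) ≠ 0 := pair_ne (Or.inr H.e_ne)
  obtain ⟨r, hr⟩ := norm_surjective θ hθ e⁻¹
  simp only at hr
  have hr0 : r ≠ 0 := fun h => inv_ne_zero H.e_ne (by rw [← hr, h, zero_mul])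
  have h1 := H.ru _ hz (fun h => zero_ne_one (congrArg Prod.fst h))
  rw [H.f_z] at h1
  have h2 : pm θ ((1 : F), c) (1, c) = sc θ r (0, e) := by
    refine Prod.ext ?_ ?_ <;> simp only [pm, sc, hr, map_one, inv_mul_cancel₀ H.e_ne, mul_zero] <;> grind
  rw [h2, H.scale r _ hr0 hz, H.f_z] at h1
  have h3 : f (pm θ ((1 : F), c) (0, e)) = sc θ r⁻¹ (1, c + 1) := by
    have h4 := congrArg (pm θ (pinv θ ((0 : F), e))) h1
    rw [pm_pinv_cancel] at h4
    rw [← h4]
    have h5 : (r⁻¹ * θ r⁻¹ : F) = e := by rw [map_inv₀, ← mul_inv, hr, inv_inv]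
    refine Prod.ext ?_ ?_ <;> simp only [pm, pinv, sc, h5, mul_one, zero_mul, add_zero, zero_add]
    ring
  have h6 : pm θ ((1 : F), c) (0, e) ≠ 0 := fun h => one_ne_zero (α := F) (by
    simpa [pm] using congrArg Prod.fst h)
  have h7 := H.invol _ h6
  rw [h3, H.scale _ _ (inv_ne_zero hr0) (pair_ne (Or.inl one_ne_zero)), H.f_uinv, inv_inv] at h7
  have h8 := congrArg Prod.fst h7
  simp only [sc, pm, mul_one, add_zero] at h8
  rw [h8, map_one, mul_one] at hr
  exact inv_eq_one.1 hr.symm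

include hθ in
theorem norm_ne_one {t : F} (ht : t ≠ 1) : t * θ t ≠ 1 := fun h => ht (norm_injective θ hθ
  (by simp only [map_one, mul_one]; exact h))

include hθ in
/-- The images of the affine points of first coordinate one. -/
theorem Rules.orbit (H : Rules θ c 1 f) {η η' : F} (hB : BRel θ η η') :
    f (1, c + lmap θ c η) = sc θ (η * η')⁻¹ (1, c + lmap θ c η') := by
  obtain ⟨h0, h1, h0', h1', hn⟩ := hB
  have h2 := two_zero (F := F)
  have hp := one_add_ne h1
  have hp' := one_add_ne h1'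
  obtain ⟨t, ht⟩ : ∃ t, t = η / (1 + η) := ⟨_, rfl⟩
  obtain ⟨r, hr⟩ : ∃ r, r = η' / (1 + η') := ⟨_, rfl⟩
  rw [← ht, ← hr] at hn
  have ht0 : t ≠ 0 := ht ▸ div_ne_zero h0 hp
  have hr0 : r ≠ 0 := hr ▸ div_ne_zero h0' hp'
  have ht1 : t ≠ 1 := fun h => by
    rw [ht, div_eq_one_iff_eq hp, right_eq_add] at h
    exact one_ne_zero h
  have hz : ((0, 1) : F × F) ≠ 0 := pair_ne (Or.inr one_ne_zero)
  have hu : ((1, c) : F × F) ≠ 0 := pair_ne (Or.inl one_ne_zero)
  have hfu : f (1, c) = (0, 1) := by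
    have := H.invol _ hz
    rwa [H.f_z] at this
  -- the relation at a scalar multiple of `u`
  have h3 := H.rz (sc θ t⁻¹ (1, c)) (sc_ne_zero θ (inv_ne_zero ht0) hu) (fun h => ht1 (by
    have := congrArg Prod.fst h
    simp only [sc, mul_one] at this
    exact inv_eq_one.1 this))
  rw [H.scale _ _ (inv_ne_zero ht0) hu, hfu, inv_inv] at h3
  have h4 : pm θ ((0 : F), 1) (sc θ t (0, 1)) = sc θ r (0, 1) := by
    refine Prod.ext ?_ ?_ <;> simp only [pm, sc, mul_zero, zero_mul, add_zero, mul_one, hn]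
  rw [h4, H.scale r _ hr0 hz, H.f_z] at h3
  have h5 : ∀ s η₁ : F, η₁ ≠ 0 → η₁ ≠ 1 → s = η₁ / (1 + η₁) →
      pm θ ((1 : F), c + 1) (sc θ s⁻¹ (1, c)) = sc θ η₁⁻¹ (1, c + lmap θ c η₁) := by
    intro s η₁ a0 a1 hs
    have hp1 := one_add_ne a1
    have ha : θ η₁ ≠ 0 := (map_ne_zero θ).2 a0
    subst hs
    refine Prod.ext ?_ ?_ <;>
      simp only [pm, sc, lmap, inv_div, map_div₀, map_inv₀, map_add, map_one, map_mul, mul_one, one_mul]
    · field_simp
      grind
    · field_simp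
      grind
  rw [h5 t η h0 h1 ht] at h3
  have h6 : f (sc θ η⁻¹ (1, c + lmap θ c η)) = pm θ ((1 : F), c + 1) (sc θ r⁻¹ (1, c)) := by
    have h7 := congrArg (pm θ ((1 : F), c + 1)) h3
    rw [h7, ← pm_assoc]
    have h8 : pm θ ((1 : F), c + 1) (1, c) = 0 := by
      refine Prod.ext ?_ ?_ <;> simp only [pm, map_one, mul_one, Prod.fst_zero, Prod.snd_zero] <;> grind
    rw [h8]
    simp [pm]
  rw [h5 r η' h0' h1' hr, H.scale _ _ (inv_ne_zero h0) (pair_ne (Or.inl one_ne_zero)), inv_inv] at h6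
  have h9 := congrArg (sc θ η⁻¹) h6
  rwa [sc_sc, sc_sc, inv_mul_cancel₀ h0, sc_one, ← mul_inv] at h9

theorem brel_third {η η' P Q : F} (hB : BRel θ η η') (hP : P = η / (1 + η)) (hQ : Q = η' / (1 + η')) :
    P + Q ≠ 0 ∧ BRel θ (1 + η) (Q / (P + Q)) := by
  obtain ⟨hb1, hb2, hb3, hb4, hb5⟩ := hB
  rw [← hP, ← hQ] at hb5
  have hp := one_add_ne hb2
  have hq := one_add_ne hb4
  have h2 := two_zero (F := F)
  have hPQ : P + Q ≠ 0 := fun e => by
    rw [CharTwo.add_eq_zero.1 e] at hb5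
    exact one_ne_zero (show (1 : F) = 0 by linear_combination -hb5)
  have hP0 : P ≠ 0 := hP ▸ div_ne_zero hb1 hp
  refine ⟨hPQ, one_add_ne hb2, fun e => hb1 (left_eq_add.1 e.symm),
    div_ne_zero (hQ ▸ div_ne_zero hb3 hq) hPQ, fun e => ?_, ?_⟩
  · rw [div_eq_one_iff_eq hPQ, right_eq_add] at e
    exact hP0 e
  · have e3 : Q / (P + Q) / (1 + Q / (P + Q)) = Q / P := by
      rw [one_add_div hPQ, show P + Q + Q = P by linear_combination Q * h2, div_div_div_cancel_right₀ hPQ]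
    have e4 : (1 + η) / (1 + (1 + η)) = 1 / P := by
      rw [← add_assoc, CharTwo.add_self_eq_zero, zero_add, hP, one_div_div]
    rw [e3, e4, map_div₀, map_div₀, map_one]
    have hθP : θ P ≠ 0 := (map_ne_zero θ).2 hP0
    field_simp
    linear_combination hb5

theorem first_identity (c P Q t : F)
    (h : c * (1 + t) * ((1 + t) * Q + (1 + P * t)) * (1 + Q) +
      (1 + c) * (1 + P) * ((1 + P) + Q) * (Q + (1 + P * t)) =
      (1 + c) * P * (1 + t) * ((1 + P) + Q) * ((1 + t) * Q + (1 + P * t)) +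
        c * t * (1 + P) * ((1 + P) + Q) * ((1 + t) * Q + (1 + P * t))) :
    c * ((1 + t) * Q + (1 + P * t)) * ((1 + P * (P * t)) + (1 + P * t) * Q) =
      (1 + c) * ((1 + P) + Q) * ((1 + P * t * t) * Q + (1 + P * t) ^ 2) := by
  grind

theorem second_identity (c P Q t s : F) (hn : Q * s = 1 + P * t)
    (h : (1 + c) * Q * (1 + P) * ((1 + s) * (t + s)) + c * s * (1 + t) * ((1 + Q) * (P + Q)) =
      Q * s * ((1 + P) + Q) * ((1 + t) + s)) :
    (1 + c) * Q * ((1 + P * t * t) * Q + (1 + P * t) ^ 2) =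
      c * (1 + P * t) * ((1 + P * (P * t)) + (1 + P * t) * Q) := by
  grind

include hθ in
/-- The constants of the relation. -/
theorem Rules.constants (H : Rules θ c 1 f) (hne : θ ≠ RingEquiv.refl F) (h8 : 8 ≤ Nat.card F) :
    (c = 0 ∨ c = 1) ∧ (c = 0 → ∀ x, θ (θ x) ^ 2 = x) := by
  classical
  have hn1 : ∀ b : F, ((1, b) : F × F) ≠ 0 := fun b => pair_ne (Or.inl one_ne_zero)
  have hL := lmap_injective θ hθ hne h8 c
    (fun η η' ζ ζ' hB hB' e => by
      have e1 := H.orbit hθ hB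
      rw [e, H.orbit hθ hB'] at e1
      have a := congrArg Prod.fst e1
      simp only [sc, mul_one, inv_inj] at a
      have b := congrArg Prod.snd e1
      simp only [sc, ← a] at b
      have hne0 : (ζ * ζ')⁻¹ ≠ 0 := inv_ne_zero (mul_ne_zero hB'.1 hB'.2.2.1)
      exact ⟨a.symm, (add_left_cancel
        (mul_left_cancel₀ (mul_ne_zero hne0 ((map_ne_zero θ).2 hne0)) b)).symm⟩)
    (fun η η' hB e => by
      have e1 := H.orbit hθ hB
      rw [e] at e1
      have e2 := H.invol _ (hn1 (c + lmap θ c η))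
      rw [e1, H.scale _ _ (inv_ne_zero (mul_ne_zero hB.1 hB.2.2.1)) (hn1 _), H.f_uinv, inv_inv] at e2
      have a := congrArg Prod.fst e2
      simp only [sc, mul_one] at a
      have b := congrArg Prod.snd e2
      simp only [sc, a, map_one, mul_one, one_mul] at b
      exact add_left_cancel b.symm)
  refine Cfsg.Lib.SuzUnique.constants θ hθ hne c fun P Q hP0 hP1 hQ0 hQ1 hn => ?_
  have h2 := two_zero (F := F)
  have hp := one_add_ne hP1
  have hq := one_add_ne hQ1
  have hcancel : ∀ x : F, x ≠ 1 → x / (1 + x) / (1 + x / (1 + x)) = x := fun x hx => by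
    have hx' := one_add_ne hx
    have e : 1 + x / (1 + x) = 1 / (1 + x) := by
      rw [one_add_div hx']
      congr 1
      linear_combination x * h2
    rw [e, div_div_div_cancel_right₀ hx', div_one]
  have hne1 : ∀ x : F, x ≠ 1 → x / (1 + x) ≠ 1 := fun x hx h => by
    rw [div_eq_one_iff_eq (one_add_ne hx), right_eq_add] at h
    exact one_ne_zero h
  obtain ⟨η, hη⟩ : ∃ η, η = P / (1 + P) := ⟨_, rfl⟩
  obtain ⟨η', hη'⟩ : ∃ η', η' = Q / (1 + Q) := ⟨_, rfl⟩
  have hB : BRel θ η η' :=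
    ⟨hη ▸ div_ne_zero hP0 hp, hη ▸ hne1 P hP1, hη' ▸ div_ne_zero hQ0 hq, hη' ▸ hne1 Q hQ1, by
      rw [hη, hη', hcancel P hP1, hcancel Q hQ1]; exact hn⟩
  obtain ⟨hPQ, hB2⟩ := brel_third hB (P := P) (Q := Q) (by rw [hη, hcancel P hP1])
    (by rw [hη', hcancel Q hQ1])
  obtain ⟨ξ', hξ'⟩ : ∃ ξ', ξ' = Q / (P + Q) := ⟨_, rfl⟩
  rw [← hξ'] at hB2
  -- the second labelling map
  let Mf : F → F := fun x => c * x + (1 + c) * θ x
  have hMinj : Function.Injective Mf := by
    intro x y e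
    simp only [Mf] at e
    by_contra hxy
    have hv : x - y ≠ 0 := sub_ne_zero.2 hxy
    refine inv_ne_zero hv (hL _ ?_)
    simp only [lmap, map_inv₀, map_sub]
    have hv' : θ x - θ y ≠ 0 := by rw [← map_sub]; exact (map_ne_zero θ).2 hv
    field_simp
    linear_combination e
  obtain ⟨y, hy⟩ := Finite.injective_iff_surjective.1 hMinj (lmap θ c η)
  simp only [Mf] at hy
  have hy0 : y ≠ 0 := fun h => hB.1 (hL _ (by rw [← hy, h, map_zero]; simp))
  have hy1 : y ≠ 1 := fun h => hB.2.1 (CharTwo.add_eq_zero.1 (hL (η + 1) (by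
    rw [lmap_add, lmap_one, ← hy, h, map_one]; linear_combination (1 + c) * h2)))
  have hy' := one_add_ne hy1
  obtain ⟨t, ht⟩ : ∃ t, t = (1 + y) / y := ⟨_, rfl⟩
  have ht0 : t ≠ 0 := ht ▸ div_ne_zero hy' hy0
  have hr := H.ru (sc θ t (1, c + 1)) (sc_ne_zero θ ht0 (hn1 _)) (fun h => by
    have := congrArg Prod.fst h
    simp only [sc, mul_one] at this
    rw [ht, div_eq_one_iff_eq hy0, add_eq_right] at this
    exact one_ne_zero this)
  rw [H.scale _ _ ht0 (hn1 _), H.f_uinv] at hr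
  have hθy : θ y ≠ 0 := (map_ne_zero θ).2 hy0
  have hθy' : (1 : F) + θ y ≠ 0 := one_add_ne fun h => hy1 (θ.injective (h.trans (map_one θ).symm))
  have a1 : pm θ ((1 : F), c) (sc θ t⁻¹ (1, c + 1)) = sc θ (1 + y)⁻¹ (1, c + lmap θ c η) := by
    rw [← hy, ht]
    refine Prod.ext ?_ ?_ <;>
      simp only [pm, sc, inv_div, map_div₀, map_inv₀, map_add, map_one, map_mul, mul_one, one_mul] <;>
      field_simp <;> grind
  have a2 : pm θ ((1 : F), c) (sc θ t (1, c + 1)) = sc θ y⁻¹ (1, c + lmap θ c (1 + η)) := by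
    rw [lmap_add, lmap_one, ← hy, ht]
    refine Prod.ext ?_ ?_ <;>
      simp only [pm, sc, inv_div, map_div₀, map_inv₀, map_add, map_one, map_mul, mul_one, one_mul] <;>
      field_simp <;> grind
  rw [a1, a2, H.scale _ _ (inv_ne_zero hy') (hn1 _), H.scale _ _ (inv_ne_zero hy0) (hn1 _), inv_inv,
    inv_inv, H.orbit hθ hB, H.orbit hθ hB2, sc_sc, sc_sc] at hr
  obtain ⟨v, hv⟩ : ∃ v, v = (1 + y) * (η * η')⁻¹ := ⟨_, rfl⟩
  have hf := congrArg Prod.fst hr
  have hs := congrArg Prod.snd hr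
  simp only [sc, pm, mul_one, zero_mul, add_zero, zero_add] at hf hs
  rw [← hf, ← hv] at hs
  have hv0 : v ≠ 0 := hv ▸ mul_ne_zero hy' (inv_ne_zero (mul_ne_zero hB.1 hB.2.2.1))
  have hζ : v * θ v * lmap θ c (η' + ξ') = 1 := by
    rw [lmap_add]
    linear_combination hs + (v * θ v * lmap θ c ξ') * h2
  -- translate to `P` and `Q`
  have f1 : η * (1 + P) = P := by rw [hη, div_mul_cancel₀ _ hp]
  have f2 : η' * (1 + Q) = Q := by rw [hη', div_mul_cancel₀ _ hq]
  have f3 : ξ' * (P + Q) = Q := by rw [hξ', div_mul_cancel₀ _ hPQ]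
  have f4 : (1 + y) * ((1 + η) * ξ') = y * (η * η') := by
    have h' := mul_ne_zero hB.1 hB.2.2.1
    have h'' := mul_ne_zero hB2.1 hB2.2.2.1
    rw [← div_eq_mul_inv, ← div_eq_mul_inv, div_eq_div_iff h' h''] at hf
    linear_combination hf
  have e'' : (1 + y) * (1 + Q) = y * P * (P + Q) := by
    have e : (1 + η) * (1 + P) = 1 := by linear_combination f1 + P * h2
    refine mul_left_cancel₀ hQ0 ?_
    linear_combination ((1 + P) * (1 + Q) * (P + Q)) * f4 - (1 + y) * (1 + Q) * (ξ' * (P + Q)) * e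
        - (1 + y) * (1 + Q) * f3 + y * (P + Q) * η' * (1 + Q) * f1 + y * (P + Q) * P * f2
  have f5 : y * ((1 + P) * ((1 + P) + Q)) = 1 + Q := by
    linear_combination (-1 : F) * e'' + (y + y * P + y * Q) * h2
  have f6 : θ y * ((1 + θ P) * ((1 + θ P) * Q + (1 + P * θ P))) = Q + (1 + P * θ P) := by
    have e := congrArg θ f5
    simp only [map_mul, map_add, map_one] at e
    rw [← hn]
    linear_combination Q * e
  have f7 : θ η * (1 + θ P) = θ P := by
    have e := congrArg θ f1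
    rwa [map_mul, map_add, map_one] at e
  refine ⟨?_, ?_⟩
  · have key : (c * y + (1 + c) * θ y) * ((1 + P) * (1 + θ P) * ((1 + P) + Q) *
        ((1 + θ P) * Q + (1 + P * θ P))) = ((1 + c) * η + c * θ η) * ((1 + P) * (1 + θ P) *
          ((1 + P) + Q) * ((1 + θ P) * Q + (1 + P * θ P))) := by rw [hy]; rfl
    have e1 : c * (1 + θ P) * ((1 + θ P) * Q + (1 + P * θ P)) * (1 + Q) +
        (1 + c) * (1 + P) * ((1 + P) + Q) * (Q + (1 + P * θ P)) =
        (1 + c) * P * (1 + θ P) * ((1 + P) + Q) * ((1 + θ P) * Q + (1 + P * θ P)) +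
          c * θ P * (1 + P) * ((1 + P) + Q) * ((1 + θ P) * Q + (1 + P * θ P)) := by
      linear_combination key - c * (1 + θ P) * ((1 + θ P) * Q + (1 + P * θ P)) * f5 -
        (1 + c) * (1 + P) * ((1 + P) + Q) * f6 +
        (1 + c) * (1 + θ P) * ((1 + P) + Q) * ((1 + θ P) * Q + (1 + P * θ P)) * f1 +
        c * (1 + P) * ((1 + P) + Q) * ((1 + θ P) * Q + (1 + P * θ P)) * f7
    exact first_identity c P Q (θ P) e1
  · obtain ⟨R, hR⟩ : ∃ R, R = (1 + Q) * (P + Q) := ⟨_, rfl⟩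
    have g1 : (η' + ξ') * R = Q * (1 + P) := by
      rw [hR]
      linear_combination (P + Q) * f2 + (1 + Q) * f3 + Q * Q * h2
    have g2 : v * (Q * ((1 + P) + Q)) = R := by
      rw [hR]
      have hηη := mul_ne_zero hB.1 hB.2.2.1
      have g : η * η' * v = 1 + y := by rw [hv, mul_comm (1 + y), mul_inv_cancel_left₀ hηη]
      refine mul_left_cancel₀ (mul_ne_zero (mul_ne_zero hp hq) hηη) ?_
      linear_combination (1 + P) * (1 + Q) * Q * ((1 + P) + Q) * g + (1 + P) * Q * ((1 + P) + Q) * e''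
        + Q * P * (P + Q) * f5 - (1 + Q) * (P + Q) * (η' * (1 + Q) * f1 + P * f2)
    have g1' := congrArg θ g1
    have g2' := congrArg θ g2
    simp only [map_mul, map_add, map_one] at g1' g2'
    have g4 : ((1 + c) * (η' + ξ') + c * θ (η' + ξ')) * (R * θ R) =
        Q * θ Q * ((1 + P) + Q) * ((1 + θ P) + θ Q) := by
      have := congrArg (fun x => x * (Q * θ Q * ((1 + P) + Q) * ((1 + θ P) + θ Q))) hζ
      simp only [lmap] at this
      linear_combination this - ((1 + c) * (η' + ξ') + c * θ (η' + ξ')) * θ v * (θ Q * ((1 + θ P) + θ Q)) * g2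
        - ((1 + c) * (η' + ξ') + c * θ (η' + ξ')) * R * g2'
    rw [map_add] at g4
    have hθR : θ R = (1 + θ Q) * (θ P + θ Q) := by rw [hR]; simp only [map_mul, map_add, map_one]
    have g5 : (1 + c) * Q * (1 + P) * ((1 + θ Q) * (θ P + θ Q)) +
        c * θ Q * (1 + θ P) * ((1 + Q) * (P + Q)) =
        Q * θ Q * ((1 + P) + Q) * ((1 + θ P) + θ Q) := by
      rw [← hθR, ← hR]
      linear_combination g4 - (1 + c) * θ R * g1 - c * R * g1'
    exact second_identity c P Q (θ P) (θ Q) hn g5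

include hθ in
/-- For `c = 0` the relation determines the images of all affine points. -/
theorem Rules.unique (H : Rules θ 0 1 f) {g : F × F → F × F} (H' : Rules θ 0 1 g) :
    ∀ p : F × F, p ≠ 0 → f p = g p := by
  rintro ⟨a, b⟩ hp
  have hu : ((1, 0) : F × F) ≠ 0 := pair_ne (Or.inl one_ne_zero)
  have hz : ((0, 1) : F × F) ≠ 0 := pair_ne (Or.inr one_ne_zero)
  by_cases ha : a = 0
  · subst ha
    have hb : b ≠ 0 := fun h => hp (by rw [h]; rfl)
    obtain ⟨r, hr⟩ := norm_surjective θ hθ b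
    simp only at hr
    have hr0 : r ≠ 0 := fun h => hb (by rw [← hr, h, zero_mul])
    rw [show ((0 : F), b) = sc θ r (0, 1) by simp [sc, hr], H.scale r _ hr0 hz, H'.scale r _ hr0 hz,
      H.f_z, H'.f_z]
  · obtain ⟨β, hβ⟩ : ∃ β, β = b / (a * θ a) := ⟨_, rfl⟩
    have hn : a * θ a ≠ 0 := mul_ne_zero ha ((map_ne_zero θ).2 ha)
    rw [show (a, b) = sc θ a (1, β) by rw [hβ]; simp [sc, mul_div_cancel₀ _ hn],
      H.scale a _ ha (pair_ne (Or.inl one_ne_zero)), H'.scale a _ ha (pair_ne (Or.inl one_ne_zero))]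
    congr 1
    by_cases hb0 : β = 0
    · have h1 := H.invol _ hz
      have h2 := H'.invol _ hz
      rw [H.f_z] at h1
      rw [H'.f_z] at h2
      rw [hb0, h1, h2]
    by_cases hb1 : β = 1
    · have h1 := H.f_uinv
      have h2 := H'.f_uinv
      rw [zero_add] at h1 h2
      rw [hb1, h1, h2]
    obtain ⟨η', hB⟩ := exists_BRel θ hθ hb0 hb1
    have h1 := H.orbit hθ hB
    have h2 := H'.orbit hθ hB
    simp only [lmap, zero_add, add_zero, zero_mul, one_mul] at h1 h2
    rw [h1, h2]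

end Cfsg.Lib.SuzUnique
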