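import Mathlib

/-!
# The identities in the field which pin down a Suzuki group
-/

set_option autoImplicit false
set_option linter.unusedSectionVars false

namespace Cfsg.Lib.SuzUnique

variable {F : Type*} [Field F] [Finite F] [CharP F 2] (θ : F ≃+* F) (hθ : Odd (orderOf θ))

theorem two_zero : (2 : F) = 0 := CharTwo.two_eq_zero

include hθ in
theorem fix_of_fix_sq {r : F} (h : θ (θ r) = r) : θ r = r := by
  obtain ⟨k, hk⟩ := hθ
  have hev : ∀ j : ℕ, (θ ^ (2 * j)) r = r := by
    intro j
    induction j with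
    | zero => simp
    | succ j ih =>
      rw [show 2 * (j + 1) = 2 * j + 1 + 1 by ring, pow_succ, pow_succ, RingAut.mul_apply,
        RingAut.mul_apply, h, ih]
  have h1 : (θ ^ (2 * k + 1)) r = r := by rw [← hk, pow_orderOf_eq_one, RingAut.one_apply]
  rw [pow_succ', RingAut.mul_apply, hev] at h1
  exact h1

include hθ in
theorem norm_injective : Function.Injective (fun x : F => x * θ x) := by
  intro x y e
  simp only at e
  by_cases hy : y = 0
  · subst hy
    rw [map_zero, mul_zero, mul_eq_zero, map_eq_zero] at e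
    tauto
  have hr : x / y * θ (x / y) = 1 := by
    rw [map_div₀, div_mul_div_comm, e, div_self (mul_ne_zero hy ((map_ne_zero θ).2 hy))]
  set r := x / y with hrd
  have h1 : θ r = r⁻¹ := eq_inv_of_mul_eq_one_right hr
  have h2 : θ r = r := fix_of_fix_sq θ hθ (by rw [h1, map_inv₀, h1, inv_inv])
  rw [h2] at hr
  have h3 : (r + 1) * (r + 1) = 0 := by
    linear_combination hr + (r + 1) * (two_zero (F := F))
  have h4 : r = 1 := by
    have h5 := (mul_self_eq_zero.1 h3)
    linear_combination h5 - (two_zero (F := F))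
  rwa [hrd, div_eq_one_iff_eq hy] at h4

include hθ in
theorem norm_surjective : Function.Surjective (fun x : F => x * θ x) :=
  Finite.injective_iff_surjective.1 (norm_injective θ hθ)

/-- The semilinear map which labels the orbits. -/
def lmap (c x : F) : F := (1 + c) * x + c * θ x

theorem lmap_one (c : F) : lmap θ c 1 = 1 := by
  simp only [lmap, map_one, mul_one]
  linear_combination c * (two_zero (F := F))

theorem lmap_zero (c : F) : lmap θ c 0 = 0 := by simp [lmap]

theorem lmap_add (c x y : F) : lmap θ c (x + y) = lmap θ c x + lmap θ c y := by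
  simp only [lmap, map_add]; ring

/-- The orbit map on the parameters. -/
def BRel (η η' : F) : Prop :=
  η ≠ 0 ∧ η ≠ 1 ∧ η' ≠ 0 ∧ η' ≠ 1 ∧
    η' / (1 + η') * θ (η' / (1 + η')) = 1 + η / (1 + η) * θ (η / (1 + η))

theorem one_add_ne {η : F} (h : η ≠ 1) : 1 + η ≠ 0 := fun e => h (CharTwo.add_eq_zero.1 e).symm

theorem BRel.symm {η η' : F} (h : BRel θ η η') : BRel θ η' η := by
  obtain ⟨a, b, c, d, e⟩ := h
  refine ⟨c, d, a, b, ?_⟩
  rw [e, ← add_assoc, CharTwo.add_self_eq_zero, zero_add]

include hθ in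
theorem exists_BRel {η : F} (h0 : η ≠ 0) (h1 : η ≠ 1) : ∃ η', BRel θ η η' := by
  have hp := one_add_ne h1
  obtain ⟨Q, hQ⟩ := norm_surjective θ hθ (1 + η / (1 + η) * θ (η / (1 + η)))
  simp only at hQ
  have hπ : η / (1 + η) ≠ 1 := fun e => by
    rw [div_eq_one_iff_eq hp, right_eq_add] at e
    exact one_ne_zero e
  have hQ0 : Q ≠ 0 := fun e => by
    rw [e, zero_mul] at hQ
    refine hπ (norm_injective θ hθ ?_)
    simp only [map_one, mul_one]
    exact (CharTwo.add_eq_zero.1 hQ.symm).symm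
  have hQ1 : Q ≠ 1 := fun e => by
    rw [e, map_one, mul_one, left_eq_add] at hQ
    rcases mul_eq_zero.1 hQ with h | h
    · exact div_ne_zero h0 hp h
    · exact div_ne_zero h0 hp ((map_eq_zero θ).1 h)
  have hq := one_add_ne hQ1
  refine ⟨Q / (1 + Q), h0, h1, div_ne_zero hQ0 hq, fun e => ?_, ?_⟩
  · rw [div_eq_one_iff_eq hq, right_eq_add] at e
    exact one_ne_zero e
  · have e : 1 + Q / (1 + Q) = 1 / (1 + Q) := by
      rw [one_add_div hq]
      congr 1
      linear_combination Q * (two_zero (F := F))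
    rw [e, div_div_div_cancel_right₀ hq, div_one]
    exact hQ

include hθ in
/-- The labelling map is injective. -/
theorem lmap_injective (hne : θ ≠ RingEquiv.refl F) (h8 : 8 ≤ Nat.card F) (c : F)
    (hX : ∀ η η' ζ ζ', BRel θ η η' → BRel θ ζ ζ' → lmap θ c η = lmap θ c ζ →
      η * η' = ζ * ζ' ∧ lmap θ c η' = lmap θ c ζ')
    (hX1 : ∀ η η', BRel θ η η' → lmap θ c η' = 1 → lmap θ c η = 1) :
    ∀ x, lmap θ c x = 0 → x = 0 := by
  classical
  haveI := Fintype.ofFinite F
  have h2 := two_zero (F := F)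
  intro ν hν
  by_contra hν0
  have hν1 : ν ≠ 1 := fun e => by rw [e, lmap_one] at hν; exact one_ne_zero hν
  have hc : c ≠ 0 := fun e => by
    rw [lmap, e, zero_mul, add_zero, add_zero, one_mul] at hν; exact hν0 hν
  have hker : ∀ x, lmap θ c x = 0 → θ (x / ν) = x / ν := fun x hx => by
    simp only [lmap] at hx hν
    have hθν : θ ν ≠ 0 := (map_ne_zero θ).2 hν0
    rw [map_div₀, div_eq_div_iff hθν hν0]
    refine mul_left_cancel₀ hc ?_
    linear_combination ν * hx - x * hν
  -- the excluded set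
  let R : Finset F := Finset.univ.filter fun r => θ r = r
  let H : Finset F := R.image (· * ν) ∪ R.image (fun r => 1 + r * ν)
  have hmemR : ∀ {r : F}, r ∈ R ↔ θ r = r := fun {r} => by simp [R]
  obtain ⟨a, ha⟩ : ∃ a : F, θ a ≠ a := by
    by_contra h
    push Not at h
    exact hne (RingEquiv.ext h)
  have hR2 : R.card * R.card ≤ Fintype.card F := by
    rw [← Finset.card_product]
    refine Finset.card_le_card_of_injOn (fun p => p.1 + p.2 * a) (fun p _ => Finset.mem_univ _) ?_
    rintro ⟨x, y⟩ hp ⟨x', y'⟩ hp' e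
    simp only [Finset.coe_product, Set.mem_prod, Finset.mem_coe, hmemR] at hp hp'
    simp only at e
    have e' := congrArg θ e
    rw [map_add, map_add, map_mul, map_mul, hp.1, hp.2, hp'.1, hp'.2] at e'
    have hy : (y - y') * (θ a - a) = 0 := by linear_combination e' - e
    rcases mul_eq_zero.1 hy with h | h
    · obtain rfl := sub_eq_zero.1 h
      exact Prod.ext (add_right_cancel e) rfl
    · exact absurd (sub_eq_zero.1 h) ha
  have hH : H.card ≤ 2 * R.card :=
    (Finset.card_union_le _ _).trans (by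
      have h₁ := R.card_image_le (f := (· * ν))
      have h₂ := R.card_image_le (f := fun r => 1 + r * ν)
      omega)
  have h8' : 8 ≤ Fintype.card F := by rwa [← Nat.card_eq_fintype_card]
  obtain ⟨η₀, hη₀⟩ : ∃ η, η ∉ H := by
    by_contra h
    push Not at h
    have h1 : Fintype.card F ≤ H.card := Finset.card_le_card fun x _ => h x
    rcases Nat.lt_or_ge R.card 3 with h3 | h3
    · omega
    · have := Nat.mul_le_mul_right R.card h3
      omega
  have hcl : ∀ {x : F} {r : F}, x ∉ H → θ r = r → x ≠ r * ν ∧ x ≠ 1 + r * ν := fun {x r} hx hr =>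
    ⟨fun e => hx (Finset.mem_union_left _ (Finset.mem_image.2 ⟨r, hmemR.2 hr, e.symm⟩)),
      fun e => hx (Finset.mem_union_right _ (Finset.mem_image.2 ⟨r, hmemR.2 hr, e.symm⟩))⟩
  -- one translation step
  have hstep : ∀ η η', BRel θ η η' → η + ν ≠ 0 → η + ν ≠ 1 →
      ∃ κ, θ κ = κ ∧ η' = κ * (η + ν) := by
    intro η η' hB h0 h1
    obtain ⟨ζ', hζ⟩ := exists_BRel θ hθ h0 h1
    obtain ⟨e1, e2⟩ := hX η η' _ ζ' hB hζ (by rw [lmap_add, hν, add_zero])
    obtain ⟨κ, hκ⟩ : ∃ κ, κ = (η' + ζ') / ν := ⟨_, rfl⟩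
    refine ⟨κ, hκ ▸ hker _ (by rw [lmap_add, e2, CharTwo.add_self_eq_zero]), ?_⟩
    have e3 : κ * ν = η' + ζ' := by rw [hκ, div_mul_cancel₀ _ hν0]
    refine mul_right_cancel₀ hν0 ?_
    have e4 : ζ' = κ * ν + η' := by grind
    grind
  have hgood : ∀ η η', η ∉ H → BRel θ η η' → η' = η + ν := by
    intro η η' hη hB
    obtain ⟨hη0, hη1⟩ := hcl hη (map_one θ)
    obtain ⟨κ, hκ, e1⟩ := hstep η η' hB
      (fun e => hη0 (by linear_combination e - ν * h2))
      (fun e => hη1 (by linear_combination e - ν * h2))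
    have hκ0 : κ ≠ 0 := fun e => hB.2.2.1 (by rw [e1, e, zero_mul])
    obtain ⟨κ', hκ', e2⟩ := hstep η' η hB.symm
      (fun e => by
        have hk : θ ((1 + κ) / κ) = (1 + κ) / κ := by rw [map_div₀, map_add, map_one, hκ]
        refine (hcl hη hk).1 ?_
        grind)
      (fun e => by
        have hl : lmap θ c η' = 1 := by
          have := congrArg (lmap θ c) e
          rwa [lmap_add, hν, add_zero, lmap_one] at this
        have hl' := hX1 η η' hB hl
        have hk := hker (η + 1) (by rw [lmap_add, hl', lmap_one, CharTwo.add_self_eq_zero])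
        refine (hcl hη hk).2 ?_
        rw [div_mul_cancel₀ _ hν0]
        grind)
    by_cases hkk : κ' * κ = 1
    · have h3 : (κ' + 1) * ν = 0 := by
        rw [e1] at e2
        grind
      have h4 : κ' = 1 := CharTwo.add_eq_zero.1 ((mul_eq_zero.1 h3).resolve_right hν0)
      rw [h4, one_mul] at hkk
      rw [e1, hkk, one_mul]
    · exfalso
      have hne1 : (1 : F) + κ' * κ ≠ 0 := fun e => hkk (CharTwo.add_eq_zero.1 e).symm
      have hk : θ (κ' * (κ + 1) / (1 + κ' * κ)) = κ' * (κ + 1) / (1 + κ' * κ) := by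
        rw [map_div₀, map_mul, map_add, map_add, map_mul, map_one, hκ, hκ']
      refine (hcl hη hk).1 ?_
      rw [e1] at e2
      grind
  -- the quadratic
  have hquad : ∀ η, η ∉ H → η * η + η = ν * ν := by
    intro η hη
    obtain ⟨hη0, hη1⟩ := hcl hη (map_zero θ)
    rw [zero_mul] at hη0
    rw [zero_mul, add_zero] at hη1
    obtain ⟨η', hB⟩ := exists_BRel θ hθ hη0 hη1
    have hH1 : 1 + η ∉ H := fun h => by
      rcases Finset.mem_union.1 h with h | h <;> obtain ⟨r, hr, e⟩ := Finset.mem_image.1 h <;>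
        rw [hmemR] at hr
      · exact (hcl hη hr).2 (by grind)
      · exact (hcl hη hr).1 (add_left_cancel e).symm
    have e1 := hgood η η' hη hB
    obtain ⟨hb1, hb2, hb3, hb4, hb5⟩ := hB
    obtain ⟨P, hP⟩ : ∃ P, P = η / (1 + η) := ⟨_, rfl⟩
    obtain ⟨Q, hQ⟩ : ∃ Q, Q = η' / (1 + η') := ⟨_, rfl⟩
    rw [← hP, ← hQ] at hb5
    have hp := one_add_ne hb2
    have hq := one_add_ne hb4
    have hPQ : P + Q ≠ 0 := fun e => by
      rw [CharTwo.add_eq_zero.1 e] at hb5
      exact one_ne_zero (show (1 : F) = 0 by linear_combination -hb5)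
    have hP0 : P ≠ 0 := hP ▸ div_ne_zero hb1 hp
    have hB2 : BRel θ (1 + η) (Q / (P + Q)) := by
      refine ⟨one_add_ne hb2, fun e => hb1 (left_eq_add.1 e.symm), div_ne_zero (hQ ▸ div_ne_zero hb3 hq) hPQ,
        fun e => ?_, ?_⟩
      · rw [div_eq_one_iff_eq hPQ, right_eq_add] at e
        exact hP0 e
      · have e3 : Q / (P + Q) / (1 + Q / (P + Q)) = Q / P := by
          rw [one_add_div hPQ, show P + Q + Q = P by linear_combination Q * h2, div_div_div_cancel_right₀ hPQ]
        have e4 : (1 + η) / (1 + (1 + η)) = 1 / P := by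
          rw [← add_assoc, CharTwo.add_self_eq_zero, zero_add, hP, one_div_div]
        rw [e3, e4, map_div₀, map_div₀, map_one]
        have hθP : θ P ≠ 0 := (map_ne_zero θ).2 hP0
        field_simp
        linear_combination hb5
    have e5 := hgood _ _ hH1 hB2
    have hp' : 1 + (η + ν) ≠ 0 := e1 ▸ hq
    rw [e1] at hQ
    have f1 : P * (1 + η) = η := by rw [hP, div_mul_cancel₀ _ hp]
    have f2 : Q * (1 + (η + ν)) = η + ν := by rw [hQ, div_mul_cancel₀ _ hp']
    have f3 : (1 + η + ν) * (P + Q) = Q := by rw [← e5, div_mul_cancel₀ _ hPQ]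
    grind
  have hbad : (Finset.univ \ H).card ≤ 2 := by
    by_contra h
    push Not at h
    obtain ⟨x, y, z, hx, hy, hz, hxy, hxz, hyz⟩ := Finset.two_lt_card_iff.1 h
    simp only [Finset.mem_sdiff, Finset.mem_univ, true_and] at hx hy hz
    have qx := hquad x hx
    have qy := hquad y hy
    have qz := hquad z hz
    have hxy' : (x - y) * (x + y + 1) = 0 := by linear_combination qx - qy
    have hxz' : (x - z) * (x + z + 1) = 0 := by linear_combination qx - qz
    have r1 := (mul_eq_zero.1 hxy').resolve_left (sub_ne_zero.2 hxy)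
    have r2 := (mul_eq_zero.1 hxz').resolve_left (sub_ne_zero.2 hxz)
    exact hyz (by linear_combination r1 - r2)
  rw [Finset.card_sdiff_of_subset (Finset.subset_univ _), Finset.card_univ] at hbad
  rcases Nat.lt_or_ge R.card 3 with h3 | h3
  · omega
  · rcases Nat.lt_or_ge R.card 4 with h4 | h4
    · have := Nat.mul_le_mul h3 h3
      omega
    · have := Nat.mul_le_mul_right R.card h4
      omega

include hθ in
/-- The constants: `c` is `0` or `1`, and `c = 0` forces `θ(θ(x)) ^ 2 = x`. -/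
theorem constants (hne : θ ≠ RingEquiv.refl F) (c : F)
    (h : ∀ P Q : F, P ≠ 0 → P ≠ 1 → Q ≠ 0 → Q ≠ 1 → Q * θ Q = 1 + P * θ P →
      c * ((1 + θ P) * Q + (1 + P * θ P)) *
          ((1 + P * (P * θ P)) + (1 + P * θ P) * Q) =
        (1 + c) * ((1 + P) + Q) * ((1 + P * θ P * θ P) * Q + (1 + P * θ P) ^ 2) ∧
      (1 + c) * Q * ((1 + P * θ P * θ P) * Q + (1 + P * θ P) ^ 2) =
        c * (1 + P * θ P) * ((1 + P * (P * θ P)) + (1 + P * θ P) * Q)) :
    (c = 0 ∨ c = 1) ∧ (c = 0 → ∀ x, θ (θ x) ^ 2 = x) := by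
  classical
  have h2 := two_zero (F := F)
  have hget : ∀ P : F, P ≠ 0 → P ≠ 1 → ∃ Q, Q ≠ 0 ∧ Q ≠ 1 ∧ Q * θ Q = 1 + P * θ P := by
    intro P h0 h1
    obtain ⟨Q, hQ⟩ := norm_surjective θ hθ (1 + P * θ P)
    refine ⟨Q, fun e => ?_, fun e => ?_, hQ⟩
    · simp only [e, zero_mul] at hQ
      exact h1 (norm_injective θ hθ (by simp only [map_one, mul_one]; exact (CharTwo.add_eq_zero.1 hQ.symm).symm))
    · simp only [e, map_one, mul_one, left_eq_add, mul_eq_zero, map_eq_zero, or_self] at hQ
      exact h0 hQ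
  have hT : ∀ P : F, P ≠ 1 → (1 : F) + P * θ P ≠ 0 := fun P h1 e => h1 (norm_injective θ hθ
    (by simp only [map_one, mul_one]; exact (CharTwo.add_eq_zero.1 e).symm))
  refine ⟨?_, ?_⟩
  · by_contra hc
    push Not at hc
    obtain ⟨hc0, hc1⟩ := hc
    have hc1' : (1 : F) + c ≠ 0 := fun e => hc1 (CharTwo.add_eq_zero.1 e).symm
    have key : ∀ P : F, P * θ P + θ (θ P) + P + θ P * θ (θ P) = 0 := by
      intro P
      by_cases hP0 : P = 0
      · simp [hP0]
      by_cases hP1 : P = 1
      · simp only [hP1, map_one, mul_one]; linear_combination (2 : F) * h2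
      obtain ⟨Q, hQ0, hQ1, hQ⟩ := hget P hP0 hP1
      obtain ⟨e1, e2⟩ := h P Q hP0 hP1 hQ0 hQ1 hQ
      have hp : (1 : F) + P ≠ 0 := one_add_ne hP1
      have hpθ : (1 : F) + θ P ≠ 0 := one_add_ne fun e => hP1 (θ.injective (e.trans (map_one θ).symm))
      obtain ⟨T, hTd⟩ : ∃ T, T = 1 + P * θ P := ⟨_, rfl⟩
      have hT0 : T ≠ 0 := hTd ▸ hT P hP1
      obtain ⟨B, hBd⟩ : ∃ B, B = 1 + P * (P * θ P) := ⟨_, rfl⟩
      obtain ⟨A, hAd⟩ : ∃ A, A = 1 + P * θ P * θ P := ⟨_, rfl⟩
      rw [← hTd, ← hAd, ← hBd] at e1 e2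
      rw [← hTd] at hQ
      have hZ : B + T * Q ≠ 0 := by
        intro hZ
        rw [hZ, mul_zero] at e2
        have hZ2 : A * Q + T ^ 2 = 0 := by
          rcases mul_eq_zero.1 e2 with h | h
          · exact absurd h (mul_ne_zero hc1' hQ0)
          · exact h
        have h3 : A * B + T ^ 3 = 0 := by linear_combination A * hZ + T * hZ2 - A * T * Q * h2
        have h4 : P * θ P * ((1 + P) * (1 + θ P)) = 0 := by
          rw [hAd, hBd, hTd] at h3
          grind
        exact mul_ne_zero (mul_ne_zero hP0 ((map_ne_zero θ).2 hP0)) (mul_ne_zero hp hpθ) h4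
      have e3 : (1 + θ P) * Q * Q = (1 + P) * T := by
        have e4 : c * (B + T * Q) * (((1 + θ P) * Q + T) * Q - ((1 + P) + Q) * T) = 0 := by
          linear_combination Q * e1 + ((1 + P) + Q) * e2
        have e5 := (mul_eq_zero.1 e4).resolve_left (mul_ne_zero hc0 hZ)
        linear_combination e5
      have e6 := congrArg (fun x => x * θ x) e3
      simp only [map_mul, map_add, map_one] at e6
      have hθT : θ T = 1 + θ P * θ (θ P) := by rw [hTd, map_add, map_mul, map_one]
      have e7 : T * (1 + θ (θ P)) = (1 + P) * θ T := by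
        refine mul_left_cancel₀ (mul_ne_zero hT0 hpθ) ?_
        have e8 : (1 + θ P) * (1 + θ (θ P)) * (Q * θ Q) ^ 2 = (1 + P) * T * ((1 + θ P) * θ T) := by
          linear_combination e6
        rw [hQ] at e8
        linear_combination e8
      rw [hθT, hTd] at e7
      grind
    have h1 : ∀ x : F, θ (θ x) = x := by
      intro x
      have k1 := key (x + 1)
      have k2 := key x
      simp only [map_add, map_one] at k1
      grind
    exact hne (RingEquiv.ext fun x => fix_of_fix_sq θ hθ (h1 x))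
  · rintro rfl x
    have key : ∀ P : F, P * θ P + θ (θ P) ^ 2 + P + θ P * θ (θ P) ^ 2 = 0 := by
      intro P
      by_cases hP0 : P = 0
      · simp [hP0]
      by_cases hP1 : P = 1
      · simp only [hP1, map_one, mul_one, one_pow]; linear_combination (2 : F) * h2
      obtain ⟨Q, hQ0, hQ1, hQ⟩ := hget P hP0 hP1
      obtain ⟨-, e2⟩ := h P Q hP0 hP1 hQ0 hQ1 hQ
      rw [add_zero, one_mul, zero_mul, zero_mul, mul_eq_zero, or_iff_right hQ0] at e2
      obtain ⟨T, hTd⟩ : ∃ T, T = 1 + P * θ P := ⟨_, rfl⟩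
      have hT0 : T ≠ 0 := hTd ▸ hT P hP1
      obtain ⟨A, hAd⟩ : ∃ A, A = 1 + P * θ P * θ P := ⟨_, rfl⟩
      rw [← hTd, ← hAd] at e2
      rw [← hTd] at hQ
      have e3 : A * Q = T ^ 2 := CharTwo.add_eq_zero.1 e2
      have e6 := congrArg (fun x => x * θ x) e3
      simp only [map_mul, map_pow] at e6
      have e7 : A * θ A = T * θ T ^ 2 := by
        refine mul_left_cancel₀ hT0 ?_
        linear_combination e6 - (A * θ A) * hQ
      rw [hAd, hTd] at e7
      simp only [map_add, map_mul, map_one] at e7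
      refine mul_left_cancel₀ ((map_ne_zero θ).2 hP0) ?_
      grind
    have k1 := key (x + 1)
    have k2 := key x
    simp only [map_add, map_one] at k1
    grind

end Cfsg.Lib.SuzUnique
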