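import Cfsg.Agent.Lib.Perm.SuzUnique.Compare
import Cfsg.Agent.Lib.Linear.Suzuki.LieForm
import Cfsg.Agent.Lib.Linear.Suzuki.Struct
import Cfsg.Agent.S0326
import Cfsg.Agent.S0327
import Cfsg.Agent.S0325

/-!
# Uniqueness of the Suzuki groups

A simple Zassenhaus group with a nonabelian two-group kernel is isomorphic to a Suzuki group.
-/

set_option autoImplicit false
set_option linter.unusedSectionVars false

namespace Cfsg.Lib.SuzUnique

open Cfsg Cfsg.Lib.ZasSuzuki Cfsg.Lib.Linear.Suz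

universe u v

/-- The Suzuki group has coordinates over its field. -/
theorem sz_coords {F : Type} [Field F] [Fintype F] {m : ℕ} [Fintype ↥(Cfsg.suzukiOvoid F m)]
    [IsSimpleGroup ↥(Cfsg.Sz F m)] (h : Params F m) :
    ∃ S : ZSetup ↥(Cfsg.Sz F m) ↥(Cfsg.suzukiOvoid F m),
      Fintype.card F = S.q ∧ Nonempty (Coords S F) := by
  classical
  haveI := Cfsg.Lib.Linear.Suz.charP_two h
  have hex : ∀ g : ↥(Cfsg.Sz F m), g ∈ US h →
      g • (⟨_, mem_inf m⟩ : ↥(Cfsg.suzukiOvoid F m)) = ⟨_, mem_inf m⟩ := by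
    rintro _ ⟨a, b, rfl⟩
    exact Subtype.ext (uSL_inf a b)
  let S : ZSetup ↥(Cfsg.Sz F m) ↥(Cfsg.suzukiOvoid F m) :=
    { a := ⟨_, mem_inf m⟩
      b := ⟨_, mem_pA m 0 0⟩
      U := US h
      hab := fun e => inf_ne_pA m _ _ (congrArg Subtype.val e)
      hZ := Cfsg.Agent.S0327.result h.pos h.card
      hUa := fun g hg => hex g hg
      hUn := fun g hg u hu => stab_normalizes h (congrArg Subtype.val hg) hu
      hcard := by
        rw [card_US h, ← Nat.card_eq_fintype_card, Cfsg.Agent.S0326.result m, h.card]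
      hfix := by
        rintro _ ⟨a, b, rfl⟩ hne c hc
        exact Subtype.ext (Cfsg.Lib.Linear.Suz.fix_unique h hne c.2 (congrArg Subtype.val hc))
      hU2 := IsPGroup.of_card (n := (2 * m + 1) * 2) (by rw [card_US h, ← pow_mul])
      hna := by
        obtain ⟨k, hk0, hk1⟩ := exists_ne_zero_one h
        refine ⟨uS h 1 0, ⟨_, _, rfl⟩, uS h k 0, ⟨_, _, rfl⟩, fun e => ?_⟩
        rw [uS_mul h, uS_mul h] at e
        have e2 := (uS_inj h e).2
        simp only [th_one h, zero_add, add_zero, one_mul, mul_one] at e2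
        rcases th_eq_self h e2.symm with e3 | e3
        · exact hk0 e3
        · exact hk1 e3 }
  have hD : ∀ g : ↥(Cfsg.Sz F m), g ∈ S.D ↔ ∃ k : Fˣ, g = dS h k := fun g => by
    rw [← mem_stab_two_iff h]
    constructor
    · rintro ⟨h1, h2⟩
      exact ⟨congrArg Subtype.val h1, by
        show g.1 • Cfsg.suzukiPointZero F = Cfsg.suzukiPointZero F
        rw [pZero_eq h]
        exact congrArg Subtype.val h2⟩
    · rintro ⟨h1, h2⟩
      refine ⟨Subtype.ext h1, Subtype.ext ?_⟩
      show g.1 • pA m (0 : F) 0 = pA m 0 0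
      rw [← pZero_eq h]
      exact h2
  have hq : Fintype.card F = S.q := by
    have hc : Nat.card ↥(dS h).range = Fintype.card F - 1 := by
      rw [← Nat.card_congr (MonoidHom.ofInjective (f := dS h)
        fun k l hkl => dHom_injective (congrArg Subtype.val hkl)).toEquiv, Nat.card_eq_fintype_card,
        Fintype.card_units]
    have hDr : S.D = (dS h).range := Subgroup.ext fun g => by
      rw [hD, MonoidHom.mem_range]
      exact exists_congr fun k => eq_comm
    show Fintype.card F = Nat.card ↥S.D + 1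
    rw [hDr, hc, Nat.sub_add_cancel Fintype.card_pos]
  let θ : F ≃+* F := RingEquiv.ofBijective
    ({ toFun := th m
       map_one' := th_one h
       map_mul' := th_mul h
       map_zero' := th_zero h
       map_add' := th_add h } : F →+* F)
    (Finite.injective_iff_bijective.1 (th_injective h))
  have hθ : Odd (orderOf θ) := by
    have h2 : ∀ (j : ℕ) x, (θ ^ (2 * j)) x = x ^ 2 ^ j := by
      intro j
      induction j with
      | zero => simp
      | succ j ih =>
        intro x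
        rw [show 2 * (j + 1) = 2 * j + 1 + 1 by ring, pow_succ, pow_succ, RingAut.mul_apply,
          RingAut.mul_apply, show θ (θ x) = x ^ 2 from th_th h x, ih, ← pow_mul, pow_succ']
    have h3 : θ ^ (2 * m + 1) = 1 := RingEquiv.ext fun x => by
      rw [pow_succ, RingAut.mul_apply, h2]
      show th m x ^ 2 ^ m = x
      rw [th, ← pow_mul, ← pow_add, show m + 1 + m = 2 * m + 1 by ring, ← h.card, FiniteField.pow_card]
    exact (odd_two_mul_add_one m).of_dvd_nat (orderOf_dvd_of_pow_eq_one h3)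
  have hθv : ∀ x, θ x = th m x := fun x => rfl
  refine ⟨S, hq, ⟨⟨θ, hθ, fun a b => uS h a (b + a * th m a), fun a b => ⟨_, _, rfl⟩, ?_, ?_, ?_, dS h,
    fun k => (hD _).2 ⟨k, rfl⟩, fun d hd => ?_, ?_⟩⟩⟩
  · intro a b a' b' e
    obtain ⟨e1, e2⟩ := uS_inj h e
    subst e1
    exact ⟨rfl, add_right_cancel e2⟩
  · rintro g ⟨a, b, rfl⟩
    refine ⟨a, b + a * th m a, ?_⟩
    rw [add_assoc, Cfsg.Lib.Linear.Suz.add_self h, add_zero]
  · intro a b a' b'
    rw [uS_mul h, hθv, th_add h]
    congr 1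
    grind
  · obtain ⟨k, hk⟩ := (hD d).1 hd
    exact ⟨k, hk.symm⟩
  · intro s a b
    rw [dS_mul_uS h, mul_inv_cancel_right, hθv, th_mul h]
    congr 1
    ring

variable {G : Type u} {Ω : Type v} [Group G] [Finite G] [MulAction G Ω] [Fintype Ω] [IsSimpleGroup G]

/-- A simple Zassenhaus group of Suzuki type is a Suzuki group. -/
theorem isoSuzuki (S : ZSetup G Ω) : Cfsg.Lie.IsoSuzuki G := by
  classical
  obtain ⟨F, iF, iFF, hF, ⟨Γ⟩⟩ := exists_coords S
  obtain ⟨n, hn, hn2⟩ := S.exists_q_eq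
  obtain ⟨m, rfl⟩ := S.odd_exp S.h_eq_sq hn
  have h : Params F m := ⟨by omega, hF.trans hn⟩
  haveI : IsSimpleGroup ↥(Cfsg.Sz F m) := Cfsg.Agent.S0325.result h.pos h.card
  haveI : Fintype ↥(Cfsg.suzukiOvoid F m) := Fintype.ofFinite _
  obtain ⟨S', hF', ⟨Γ'⟩⟩ := sz_coords (F := F) h
  obtain ⟨e⟩ := nonempty_mulEquiv Γ Γ' hF hF'
  obtain ⟨e', -⟩ := exists_lie_equiv h
  exact ⟨F, iF, iFF, m, h.pos, h.card, ⟨e.trans e'⟩⟩

end Cfsg.Lib.SuzUnique
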