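import Cfsg.Agent.Lib.Perm.SuzUnique.Coords
import Cfsg.Agent.Lib.Perm.SuzUnique.Data

/-!
# The normalised presentation of the action of a simple Zassenhaus group of Suzuki type
-/

set_option autoImplicit false
set_option linter.unusedSectionVars false

namespace Cfsg.Lib.SuzUnique

open Cfsg Cfsg.Lib.ZasSuzuki
open scoped Pointwise

universe u v

variable {G : Type u} {Ω : Type v} [Group G] [Finite G] [MulAction G Ω] [Fintype Ω] [IsSimpleGroup G]
variable {S : ZSetup G Ω} {F : Type} [Field F] [Fintype F]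

theorem charP_two (hF : Fintype.card F = S.q) : CharP F 2 := by
  obtain ⟨n, hn, -⟩ := S.exists_q_eq
  haveI : Fact (Nat.Prime 2) := ⟨Nat.prime_two⟩
  exact charP_of_card_eq_prime_pow (f := n) (by rw [hF, hn])

namespace Coords

variable (Γ : Coords S F)

/-- The affine point with given coordinates. -/
def pt (p : F × F) : Ω := Γ.C p.1 p.2 • S.b

theorem C_pm (p r : F × F) :
    Γ.C (pm Γ.θ p r).1 (pm Γ.θ p r).2 = Γ.C p.1 p.2 * Γ.C r.1 r.2 := (Γ.C_mul _ _ _ _).symm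

theorem C_zero : Γ.C 0 0 = 1 := by
  have h := Γ.C_mul 0 0 0 0
  simp only [zero_mul, add_zero] at h
  exact mul_eq_left.1 h

theorem C_smul_pt (p r : F × F) : Γ.C p.1 p.2 • Γ.pt r = Γ.pt (pm Γ.θ p r) := by
  rw [pt, pt, C_pm, mul_smul]

theorem C_fix (x y : F) : Γ.C x y • S.a = S.a := S.hUa (Γ.C_mem x y)

theorem pt_zero : Γ.pt 0 = S.b := by
  rw [pt]
  show Γ.C 0 0 • S.b = S.b
  rw [C_zero, one_smul]

theorem pt_inj {p r : F × F} (h : Γ.pt p = Γ.pt r) : p = r := by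
  have h2 : ((Γ.C r.1 r.2)⁻¹ * Γ.C p.1 p.2) • S.b = S.b := by
    rw [mul_smul, inv_smul_eq_iff]; exact h
  by_contra hne
  refine S.hab (S.hfix _ (S.U.mul_mem (S.U.inv_mem (Γ.C_mem _ _)) (Γ.C_mem _ _)) (fun e => hne ?_) _ h2).symm
  obtain ⟨e1, e2⟩ := Γ.C_inj (inv_mul_eq_one.1 e).symm
  exact Prod.ext e1 e2

theorem pt_ne (p : F × F) : Γ.pt p ≠ S.a := fun h => S.hab (by
  have := congrArg (fun x => (Γ.C p.1 p.2)⁻¹ • x) h
  simp only [pt, inv_smul_smul] at this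
  rw [this, eq_comm, inv_smul_eq_iff, C_fix])

theorem pt_surj {x : Ω} (hx : x ≠ S.a) : ∃ p, Γ.pt p = x := by
  classical
  let f : F × F → {y : Ω // y ≠ S.a} := fun p => ⟨Γ.pt p, Γ.pt_ne p⟩
  have hcard : Fintype.card (F × F) = S.h := by
    rw [← Nat.card_eq_fintype_card]
    refine Nat.card_congr (Equiv.ofBijective (fun p : F × F => (⟨Γ.C p.1 p.2, Γ.C_mem _ _⟩ : S.U)) ⟨?_, ?_⟩)
    · intro p r h
      obtain ⟨e1, e2⟩ := Γ.C_inj (congrArg Subtype.val h)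
      exact Prod.ext e1 e2
    · rintro ⟨g, hg⟩
      obtain ⟨a, b, h⟩ := Γ.C_surj g hg
      exact ⟨(a, b), Subtype.ext h⟩
  have hb : Function.Bijective f := (Fintype.bijective_iff_injective_and_card f).2
    ⟨fun p r h => Γ.pt_inj (congrArg Subtype.val h), by
      rw [hcard, Fintype.card_subtype_compl, Fintype.card_subtype_eq, S.card_omega, Nat.add_sub_cancel]⟩
  obtain ⟨p, hp⟩ := hb.2 ⟨x, hx⟩
  exact ⟨p, congrArg Subtype.val hp⟩

theorem k_smul_a (s : Fˣ) : Γ.k s • S.a = S.a := (Γ.k_mem s).1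

theorem k_smul_b (s : Fˣ) : Γ.k s • S.b = S.b := (Γ.k_mem s).2

theorem k_smul_pt (s : Fˣ) (p : F × F) : Γ.k s • Γ.pt p = Γ.pt (sc Γ.θ s p) := by
  show Γ.k s • Γ.C p.1 p.2 • S.b = Γ.C ((s : F) * p.1) ((s : F) * Γ.θ s * p.2) • S.b
  rw [← Γ.k_C, mul_smul, mul_smul, inv_smul_eq_iff.2 (Γ.k_smul_b s).symm]

theorem theta_ne : Γ.θ ≠ RingEquiv.refl F := fun h => by
  obtain ⟨u, hu, v, hv, huv⟩ := S.hna
  obtain ⟨a, b, rfl⟩ := Γ.C_surj u hu
  obtain ⟨a', b', rfl⟩ := Γ.C_surj v hv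
  refine huv ?_
  rw [Γ.C_mul, Γ.C_mul, h]
  simp only [RingEquiv.refl_apply]
  ring_nf

/-- An element inverting the scalings, with the relation `w z w = u w u⁻¹` for `u = C 1 c`, `z = C 0 e`. -/
def Normal (w : G) (c e : F) : Prop :=
  orderOf w = 2 ∧ w • S.a = S.b ∧ w • S.b = S.a ∧ e ≠ 0 ∧
    w * Γ.C 0 e * w = Γ.C 1 c * w * (Γ.C 1 c)⁻¹

theorem exists_normal (hF : Fintype.card F = S.q) : ∃ (w : G) (c e : F), Γ.Normal w c e := by
  classical
  haveI := charP_two hF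
  obtain ⟨w, hw, hwa, hwb⟩ := (Cfsg.Agent.S0740.result S.hZ S.hab).1
  have hww : w * w = 1 := by rw [← pow_two, ← hw, pow_orderOf_eq_one]
  have hwi : w⁻¹ = w := inv_eq_of_mul_eq_one_right hww
  have hinv : ∀ d ∈ S.D, w * d * w = d⁻¹ := fun d hd => by
    conv_lhs => arg 2; rw [← hwi]
    exact Cfsg.Lib.Char.zas_invert S.hZ S.hab S.odd_D hw hwa hwb hd
  have hDc : ∀ x ∈ S.D, ∀ y ∈ S.D, x * y = y * x := fun x hx y hy =>
    Cfsg.Lib.Char.zas_D_comm S.hZ S.hab S.odd_D hx hy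
  have hzp : ∀ s : F, s ≠ 0 → Γ.pt (0, s) ≠ S.b := fun s hs h =>
    hs (congrArg Prod.snd (Γ.pt_inj (h.trans Γ.pt_zero.symm)))
  have hf : ∀ s : F, s ≠ 0 → ∃ p, Γ.pt p = w • Γ.pt (0, s) := fun s hs =>
    Γ.pt_surj fun h => hzp s hs (smul_left_cancel w (h.trans hwb.symm))
  -- `w` does not preserve the centre
  obtain ⟨e, he, a₀, b₀, ha, hab⟩ : ∃ e, e ≠ 0 ∧ ∃ a₀ b₀, a₀ ≠ 0 ∧ Γ.pt (a₀, b₀) = w • Γ.pt (0, e) := by
    by_contra hcon
    push Not at hcon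
    let O : Set Ω := insert S.a (Set.range fun s : F => Γ.pt (0, s))
    let H : Subgroup G := MulAction.stabilizer G O
    have hwO : w ∈ H := by
      refine (MulAction.mem_stabilizer_set' (Set.toFinite _)).2 fun x hx => ?_
      rcases hx with rfl | ⟨s, rfl⟩
      · exact Or.inr ⟨0, hwa.symm ▸ Γ.pt_zero⟩
      · by_cases hs : s = 0
        · exact Or.inl (by subst hs; exact (congrArg (w • ·) Γ.pt_zero).trans hwb)
        obtain ⟨⟨p1, p2⟩, hp⟩ := hf s hs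
        have : p1 = 0 := by
          by_contra h1
          exact hcon s hs p1 p2 h1 hp
        subst this
        exact Or.inr ⟨p2, hp⟩
    have hzO : ∀ s : F, Γ.C 0 s ∈ H := fun s => by
      refine (MulAction.mem_stabilizer_set' (Set.toFinite _)).2 fun x hx => ?_
      rcases hx with rfl | ⟨t, rfl⟩
      · exact Or.inl (Γ.C_fix _ _)
      · refine Or.inr ⟨s + t, ?_⟩
        rw [show Γ.C 0 s • Γ.pt (0, t) = Γ.pt (pm Γ.θ (0, s) (0, t)) from Γ.C_smul_pt (0, s) (0, t)]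
        congr 1
        simp [pm]
    have hdvd : Nat.card O ∣ Nat.card G := by
      refine dvd_trans ?_ (Subgroup.card_subgroup_dvd_card H)
      have horb : MulAction.orbit H S.a = O := by
        ext x
        constructor
        · rintro ⟨g, rfl⟩
          exact (MulAction.mem_stabilizer_set' (Set.toFinite _)).1 g.2 (Set.mem_insert _ _)
        · rintro (rfl | ⟨s, rfl⟩)
          · exact MulAction.mem_orbit_self _
          · exact ⟨⟨_, mul_mem (hzO s) hwO⟩, by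
              show (Γ.C 0 s * w) • S.a = _
              rw [mul_smul, hwa]; rfl⟩
      haveI : Fintype H := Fintype.ofFinite _
      haveI : Fintype (MulAction.stabilizer H S.a) := Fintype.ofFinite _
      haveI : Fintype (MulAction.orbit H S.a) := Fintype.ofFinite _
      have hc := MulAction.card_orbit_mul_card_stabilizer_eq_card_group H S.a
      rw [← horb]
      exact ⟨_, by rw [Nat.card_eq_fintype_card, Nat.card_eq_fintype_card]; exact hc.symm⟩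
    have hO : Nat.card O = S.q + 1 := by
      rw [Nat.card_coe_set_eq, Set.ncard_insert_of_notMem (by rintro ⟨s, hs⟩; exact Γ.pt_ne _ hs),
        Set.ncard_range_of_injective (fun s t h => congrArg Prod.snd (Γ.pt_inj h)),
        Nat.card_eq_fintype_card, hF]
    rw [hO, S.card_G, S.h_eq_sq] at hdvd
    obtain ⟨n, hn, hn2⟩ := S.exists_q_eq
    have hev : Even S.q := by rw [hn]; exact Nat.even_pow.2 ⟨even_two, by omega⟩
    obtain ⟨k, hk⟩ := hev
    have hq4 : 4 ≤ S.q := by rw [hn]; exact (Nat.pow_le_pow_right (show 0 < 2 by norm_num) hn2)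
    have h1 : ((S.q + 1 : ℕ) : ℤ) ∣ ((S.q : ℤ) ^ 2 + 1) * ((S.q : ℤ) ^ 2 * ((S.q : ℤ) - 1)) := by
      have := Int.natCast_dvd_natCast.2 hdvd
      push_cast [Nat.cast_sub (show 1 ≤ S.q by omega)] at this ⊢
      exact this
    have h2 : ((S.q + 1 : ℕ) : ℤ) ∣ 4 := by
      obtain ⟨j, hj⟩ := h1
      refine ⟨((S.q : ℤ) ^ 4 - 2 * (S.q : ℤ) ^ 3 + 3 * (S.q : ℤ) ^ 2 - 4 * S.q + 4) - j, ?_⟩
      push_cast at hj ⊢
      linear_combination -hj
    have h3 := Int.le_of_dvd (by norm_num) h2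
    have h3' : S.q + 1 ≤ 4 := by exact_mod_cast h3
    omega
  -- the relation
  obtain ⟨z, hz⟩ : ∃ z, z = Γ.C 0 e := ⟨_, rfl⟩
  obtain ⟨u, hu⟩ : ∃ u, u = Γ.C a₀ b₀ := ⟨_, rfl⟩
  have hzz : z * z = 1 := by
    rw [hz, Γ.C_mul, zero_mul, add_zero, add_zero, CharTwo.add_self_eq_zero, C_zero]
  have hub : w • z • S.b = u • S.b := by rw [hz, hu]; exact hab.symm
  obtain ⟨y, hy⟩ : ∃ y, y = u⁻¹ * (w * z * w) := ⟨_, rfl⟩
  have hya : y • S.a = S.b := by
    rw [hy, mul_smul, mul_smul, mul_smul, hwa, hub, inv_smul_smul]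
  have hyb : (w * y) • S.a = S.a := by rw [mul_smul, hya, hwb]
  obtain ⟨g, hg⟩ : ∃ g, g = w * y := ⟨_, rfl⟩
  rw [← hg] at hyb
  obtain ⟨p, hp⟩ := Γ.pt_surj (x := g • S.b) (fun h => S.hab (smul_left_cancel g (h.trans hyb.symm)).symm)
  obtain ⟨d, hd⟩ : ∃ d, d = (Γ.C p.1 p.2)⁻¹ * g := ⟨_, rfl⟩
  have hdD : d ∈ S.D := by
    refine ⟨?_, ?_⟩ <;> show d • _ = _ <;> rw [hd, mul_smul, inv_smul_eq_iff]
    · rw [hyb, C_fix]
    · exact hp.symm
  obtain ⟨u', hu'⟩ : ∃ u', u' = d⁻¹ * Γ.C p.1 p.2 * d := ⟨_, rfl⟩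
  have hu'U : u' ∈ S.U := by
    rw [hu']
    have := S.hUn d⁻¹ (inv_mem hdD).1 _ (Γ.C_mem p.1 p.2)
    rwa [inv_inv] at this
  have hrel : w * z * w = u * w * d * u' := by
    rw [hu', ← mul_assoc, ← mul_assoc, mul_assoc u w d, mul_assoc u (w * d), mul_assoc w d d⁻¹,
      mul_inv_cancel, mul_one, mul_assoc (u * w), hd, mul_inv_cancel_left, hg, mul_assoc u w,
      ← mul_assoc w w, hww, one_mul, hy, mul_inv_cancel_left]
  have hwd : w * d⁻¹ = d * w := by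
    have := congrArg (w * ·) (hinv d hdD)
    simp only [← mul_assoc, hww, one_mul] at this
    exact this.symm
  have hsym : w * z * w = u'⁻¹ * w * d * u⁻¹ := by
    have := congrArg (·⁻¹) hrel
    simp only [mul_inv_rev, hwi, inv_eq_of_mul_eq_one_right hzz, ← mul_assoc] at this
    rw [this, mul_assoc u'⁻¹ d⁻¹ w]
    congr 1
    rw [mul_assoc u'⁻¹ w d]
    congr 1
    conv_rhs => rw [← inv_inv d]
    rw [← hinv d⁻¹ (inv_mem hdD)]
    rw [← mul_assoc w, ← mul_assoc w, hww, one_mul]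
  have hkey : u' = u⁻¹ := by
    have hma : (u * w * d * u') • S.a = u • S.b := by
      rw [mul_smul, mul_smul, mul_smul, show u' • S.a = S.a from S.hUa hu'U,
        show d • S.a = S.a from hdD.1, hwa]
    have hmb : (u'⁻¹ * w * d * u⁻¹) • S.a = u'⁻¹ • S.b := by
      rw [mul_smul, mul_smul, mul_smul,
        show u⁻¹ • S.a = S.a from S.hUa (inv_mem (hu ▸ Γ.C_mem _ _)), show d • S.a = S.a from hdD.1, hwa]
    rw [← hrel, hsym, hmb] at hma
    have h2 : (u' * u) • S.b = S.b := by rw [mul_smul, ← hma, smul_inv_smul]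
    by_contra hne
    exact S.hab (S.hfix _ (mul_mem hu'U (hu ▸ Γ.C_mem _ _))
      (fun h => hne (eq_inv_of_mul_eq_one_left h)) _ h2).symm
  rw [hkey] at hrel
  -- absorb the scaling
  obtain ⟨s, hs⟩ := Γ.k_surj d hdD
  obtain ⟨l, hl⟩ : ∃ l : Fˣ, l = Units.mk0 a₀ ha := ⟨_, rfl⟩
  obtain ⟨m, hm⟩ : ∃ m, m = Γ.k l := ⟨_, rfl⟩
  have hmD : m ∈ S.D := hm ▸ Γ.k_mem l
  have hwm : ∀ x ∈ S.D, w * x = x⁻¹ * w := fun x hx => by
    have := congrArg (· * w) (hinv x hx)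
    simp only [mul_assoc, hww, mul_one] at this
    exact this
  obtain ⟨n, hn⟩ : ∃ n, n = d⁻¹ * (m * m)⁻¹ := ⟨_, rfl⟩
  have hnD : n ∈ S.D := hn ▸ mul_mem (inv_mem hdD) (inv_mem (mul_mem hmD hmD))
  obtain ⟨x, hx⟩ : ∃ x, x = m * n := ⟨_, rfl⟩
  have hxD : x ∈ S.D := hx ▸ mul_mem hmD hnD
  obtain ⟨r, hr⟩ := Γ.k_surj x hxD
  refine ⟨n * w, ((l⁻¹ : Fˣ) : F) * Γ.θ ((l⁻¹ : Fˣ) : F) * b₀, (r : F) * Γ.θ r * e, ?_, ?_, ?_, ?_, ?_⟩
  · refine orderOf_eq_prime ?_ fun h => S.hab ?_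
    · rw [pow_two, mul_assoc, ← mul_assoc w n, hwm n hnD, mul_assoc n⁻¹, hww, mul_one, mul_inv_cancel]
    · have := congrArg (· • S.a) h
      simp only [mul_smul, hwa, one_smul] at this
      rw [show n • S.b = S.b from hnD.2] at this
      exact this.symm
  · rw [mul_smul, hwa]; exact hnD.2
  · rw [mul_smul, hwb]; exact hnD.1
  · exact mul_ne_zero (mul_ne_zero r.ne_zero ((map_ne_zero Γ.θ).2 r.ne_zero)) he
  have e1 : Γ.C 0 ((r : F) * Γ.θ r * e) = x * z * x⁻¹ := by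
    rw [← hr, hz, Γ.k_C, mul_zero]
  have e2 : Γ.C 1 (((l⁻¹ : Fˣ) : F) * Γ.θ ((l⁻¹ : Fˣ) : F) * b₀) = m⁻¹ * u * m := by
    have := Γ.k_C l⁻¹ a₀ b₀
    rw [map_inv, inv_inv, ← hm, ← hu] at this
    rw [this, hl, Units.val_inv_eq_inv_val, Units.val_mk0, inv_mul_cancel₀ ha]
  rw [e1, e2]
  have hmn : m * n = n * m := hDc m hmD n hnD
  have h3 : (m * n) * (m * n)⁻¹ = 1 := mul_inv_cancel _
  calc n * w * (x * z * x⁻¹) * (n * w) = n * ((w * x) * z * (x⁻¹ * n * w)) := by group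
    _ = n * ((x⁻¹ * w) * z * (m⁻¹ * w)) := by
      rw [hwm x hxD, show x⁻¹ * n = m⁻¹ by rw [hx, hmn]; group]
    _ = n * ((x⁻¹ * w) * z * (w * m)) := by rw [hwm m hmD]
    _ = (n * x⁻¹) * (w * z * w) * m := by group
    _ = m⁻¹ * (u * w * d * u⁻¹) * m := by rw [hrel, show n * x⁻¹ = m⁻¹ by rw [hx]; group]
    _ = m⁻¹ * u * (w * d) * u⁻¹ * m := by group
    _ = m⁻¹ * u * (m * n * (w * m⁻¹)) * u⁻¹ * m := by
      rw [hwm d hdD, hwm m⁻¹ (inv_mem hmD), inv_inv]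
      congr 3
      rw [← mul_assoc (m * n) m w]
      congr 1
      rw [mul_assoc m n m, ← hmn, hn]
      have hmd : m * d⁻¹ = d⁻¹ * m := hDc m hmD d⁻¹ (inv_mem hdD)
      calc d⁻¹ = d⁻¹ * (m * m) * (m * m)⁻¹ := by group
        _ = m * (m * (d⁻¹ * (m * m)⁻¹)) := by
          rw [← mul_assoc m d⁻¹, hmd]
          simp only [← mul_assoc]
          rw [hmd]
    _ = _ := by group

/-- The action of `w` on the affine points, in coordinates. -/
noncomputable def wfun (w : G) : F × F → F × F := by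
  classical
  exact fun p => if h : ∃ r, Γ.pt r = w • Γ.pt p then h.choose else 0

theorem pt_wfun {w : G} (hwb : w • S.b = S.a) {p : F × F} (hp : p ≠ 0) :
    Γ.pt (Γ.wfun w p) = w • Γ.pt p := by
  have h : ∃ r, Γ.pt r = w • Γ.pt p := Γ.pt_surj fun h => hp (Γ.pt_inj (by
    rw [Γ.pt_zero]
    exact smul_left_cancel w (h.trans hwb.symm)))
  rw [wfun]
  simp only [dif_pos h]
  exact h.choose_spec

theorem rules (hF : Fintype.card F = S.q) {w : G} {c e : F} (hN : Γ.Normal w c e) :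
    Rules Γ.θ c e (Γ.wfun w) := by
  haveI := charP_two hF
  obtain ⟨hw, hwa, hwb, he, hrel⟩ := hN
  have hww : w * w = 1 := by rw [← pow_two, ← hw, pow_orderOf_eq_one]
  have hwi : w⁻¹ = w := inv_eq_of_mul_eq_one_right hww
  have hws : ∀ y : Ω, w • w • y = y := fun y => by rw [← mul_smul, hww, one_smul]
  have hpt : ∀ {p : F × F}, p ≠ 0 → Γ.pt (Γ.wfun w p) = w • Γ.pt p := fun hp => Γ.pt_wfun hwb hp
  have hne : ∀ p, p ≠ 0 → Γ.wfun w p ≠ 0 := fun p hp h => by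
    have h1 := hpt hp
    rw [h, Γ.pt_zero, ← hwa] at h1
    exact Γ.pt_ne p (smul_left_cancel w h1).symm
  have hinvol : ∀ p, p ≠ 0 → Γ.wfun w (Γ.wfun w p) = p := fun p hp => Γ.pt_inj (by
    rw [hpt (hne p hp), hpt hp, hws])
  have hui : (Γ.C 1 c)⁻¹ = Γ.C 1 (c + 1) := inv_eq_of_mul_eq_one_right (by
    rw [Γ.C_mul, map_one, mul_one, CharTwo.add_self_eq_zero, add_comm c (c + 1), add_assoc (c + 1) c 1,
      CharTwo.add_self_eq_zero, C_zero])
  have hu0 : ((1, c) : F × F) ≠ 0 := pair_ne (Or.inl one_ne_zero)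
  have hu1 : ((1, c + 1) : F × F) ≠ 0 := pair_ne (Or.inl one_ne_zero)
  have hz0 : ((0, e) : F × F) ≠ 0 := pair_ne (Or.inr he)
  have hrel2 : w * Γ.C 1 c * w = Γ.C 0 e * w * Γ.C 1 c := by
    have := congrArg (fun y => w * y * Γ.C 1 c) hrel
    simp only [← mul_assoc, hww, one_mul, inv_mul_cancel_right] at this
    exact this.symm
  have hpzero : pinv Γ.θ ((1 : F), c + 1) = (1, c) := by
    refine Prod.ext rfl ?_
    show c + 1 + 1 * Γ.θ 1 = c
    rw [map_one, one_mul, add_assoc, CharTwo.add_self_eq_zero, add_zero]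
  have hpzero' : pinv Γ.θ ((1 : F), c) = (1, c + 1) := by
    refine Prod.ext rfl ?_
    show c + 1 * Γ.θ 1 = c + 1
    rw [map_one, one_mul]
  have hfz : Γ.wfun w (0, e) = (1, c) := Γ.pt_inj (by
    rw [hpt hz0]
    have := congrArg (· • S.a) hrel
    simp only [mul_smul, hwa, hui] at this
    rw [Γ.C_fix, hwa] at this
    exact this)
  refine ⟨he, hne, hinvol, ?_, hfz, ?_, ?_, ?_⟩
  · intro s p hs hp
    refine Γ.pt_inj ?_
    have hsp : sc Γ.θ s p ≠ 0 := sc_ne_zero Γ.θ hs hp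
    rw [hpt hsp]
    obtain ⟨t, rfl⟩ : ∃ t : Fˣ, (t : F) = s := ⟨Units.mk0 s hs, rfl⟩
    have hw2 : w * Γ.k t = (Γ.k t)⁻¹ * w := by
      have := Cfsg.Lib.Char.zas_invert S.hZ S.hab S.odd_D hw hwa hwb (Γ.k_mem t)
      rw [← this, inv_mul_cancel_right]
    rw [← Units.val_inv_eq_inv_val, ← Γ.k_smul_pt t⁻¹, hpt hp, map_inv, ← mul_smul, ← hw2, mul_smul,
      Γ.k_smul_pt]
  · refine Γ.pt_inj ?_
    rw [hpt hu1]
    have := congrArg (fun y => y⁻¹ • S.a) hrel2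
    simp only [mul_inv_rev, hwi, ← mul_assoc] at this
    have hzi : (Γ.C 0 e)⁻¹ = Γ.C 0 e := inv_eq_of_mul_eq_one_right (by
      rw [Γ.C_mul, zero_mul, add_zero, add_zero, CharTwo.add_self_eq_zero, C_zero])
    rw [hzi, hui, mul_smul, mul_smul, mul_smul, mul_smul, hwa, Γ.C_fix, hwa] at this
    exact this
  · intro p hp hne'
    have hq : pm Γ.θ (0, e) (Γ.wfun w p) ≠ 0 := fun h => hne' (by
      rw [pm_eq_zero] at h
      have h1 : pinv Γ.θ ((0 : F), e) = (0, e) := by simp [pinv]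
      rw [h1] at h
      rw [← hinvol p hp, h, hfz])
    have hq' : pm Γ.θ ((1 : F), c + 1) p ≠ 0 := fun h => hne' (by
      rw [pm_eq_zero] at h
      rw [h, hpzero])
    refine Γ.pt_inj ?_
    rw [hpt hq, ← Γ.C_smul_pt, ← Γ.C_smul_pt, hpt hp, hpt hq', ← Γ.C_smul_pt, ← mul_smul, ← mul_smul, hrel,
      mul_smul, mul_smul, hui]
  · intro p hp hne'
    have hq : pm Γ.θ (1, c) (Γ.wfun w p) ≠ 0 := fun h => hne' (by
      rw [pm_eq_zero, hpzero'] at h
      have h1 : Γ.wfun w (1, c + 1) = (1, c + 1) := by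
        refine Γ.pt_inj ?_
        rw [hpt hu1]
        have := congrArg (fun y => y⁻¹ • S.a) hrel2
        simp only [mul_inv_rev, hwi, ← mul_assoc] at this
        have hzi : (Γ.C 0 e)⁻¹ = Γ.C 0 e := inv_eq_of_mul_eq_one_right (by
          rw [Γ.C_mul, zero_mul, add_zero, add_zero, CharTwo.add_self_eq_zero, C_zero])
        rw [hzi, hui, mul_smul, mul_smul, mul_smul, mul_smul, hwa, Γ.C_fix, hwa] at this
        exact this
      rw [← hinvol p hp, h, h1])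
    have hq' : pm Γ.θ ((1 : F), c) p ≠ 0 := fun h => hne' (by
      rw [pm_eq_zero] at h
      rw [h, hpzero'])
    refine Γ.pt_inj ?_
    rw [hpt hq, ← Γ.C_smul_pt, ← Γ.C_smul_pt, hpt hp, hpt hq', ← Γ.C_smul_pt, ← mul_smul, ← mul_smul, hrel2,
      mul_smul, mul_smul]

end Coords

end Cfsg.Lib.SuzUnique
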